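import Cfsg.Agent.Lib.SpFrame96.Tiny
import Mathlib.FieldTheory.Finite.Basic

/-!
**Five coordinates**: a set of unit vectors containing the axes, closed under even permutations and its own
reflections, and containing more than axes and diagonals, is the set of all unit vectors.
-/

set_option autoImplicit false

namespace Cfsg.Agent.TableRelax.Mono

open Matrix

variable {F : Type*} [Field F] [Fintype F] {p : ℕ} [Fact p.Prime]

/-- A coordinatewise ring isomorphism keeps the hypotheses. -/
theorem Closed.comap {K : Type*} [Field K] {n : ℕ} {Y : Set (Fin n → F)} (h : Closed Y) (f : K ≃+* F) :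
    Closed (setOf fun v : Fin n → K => (fun i => f (v i)) ∈ Y) := by
  have hdot : ∀ v w : Fin n → K, (fun i => f (v i)) ⬝ᵥ (fun i => f (w i)) = f (v ⬝ᵥ w) := fun v w => by
    simp [dotProduct]
  have hunit : ∀ v : Fin n → K, (fun i => f (v i)) ∈ Y → v ⬝ᵥ v = 1 := fun v hv =>
    f.injective (by rw [← hdot, h.unit _ hv, map_one])
  refine ⟨⟨hunit, fun y hy w hw => ?_⟩, fun h0 => h.two ?_, h.dim, fun i => ?_, fun σ hσ y hy => ?_⟩
  · show (fun i => f (R w y i)) ∈ Y
    have := h.refl _ hy _ hw
    rw [R_unit (h.unit _ hw), hdot] at this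
    convert this using 2 with i
    simp [R_unit (hunit w hw), map_ofNat]
  · rw [← map_ofNat f 2, h0, map_zero]
  · show (fun j => f (e i j)) ∈ Y
    convert h.inY_e i using 2 with j
    by_cases hj : j = i
    · subst hj; simp [e_same]
    · simp [e_ne hj]
  · show (fun j => f (P σ y j)) ∈ Y
    convert h.inY_perm σ hσ _ hy using 2 with j; rfl

theorem KRoot.map {K : Type*} [Field K] [Fintype K] (f : K ≃+* F) {v : Fin 5 → K} (hv : KRoot v) :
    KRoot (fun i => f (v i)) := by
  rcases hv with ⟨a, ha⟩ | ⟨a, b, hab, ha, hb, hz⟩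
  · exact Or.inl ⟨a, fun i hi => by simp [ha i hi]⟩
  · refine Or.inr ⟨a, b, hab, ?_, ?_, fun i h1 h2 => by simp [hz i h1 h2]⟩
    · simpa [map_ofNat] using congrArg f ha
    · simpa [map_ofNat] using congrArg f hb

/-- **Five coordinates.** -/
theorem Closed.all_units_five {Y : Set (Fin 5 → F)} (h : Closed Y) (hF : Fintype.card F = p) (hp2 : p ≠ 2)
    {y : Fin 5 → F} (hy : y ∈ Y) (hr : ¬ KRoot y) (v : Fin 5 → F) (hv : v ⬝ᵥ v = 1) : v ∈ Y := by
  by_cases hp : 11 ≤ p
  · exact h.units_large hF hp hy hr hv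
  set f : ZMod p ≃+* F := ZMod.ringEquivOfPrime F Fact.out hF
  have hY' := h.comap f
  have hy' : (fun i => f.symm (y i)) ∈ setOf fun v : Fin 5 → ZMod p => (fun i => f (v i)) ∈ Y := by
    show (fun i => f (f.symm (y i))) ∈ Y
    simpa using hy
  have hr' : ¬ KRoot fun i => f.symm (y i) := fun h' => hr (by simpa using h'.map f)
  have hv' : (fun i => f.symm (v i)) ⬝ᵥ (fun i => f.symm (v i)) = 1 := by
    simp only [dotProduct, ← map_mul, ← map_sum]
    rw [show ∑ i, v i * v i = 1 from hv, map_one]
  have hpp : p.Prime := Fact.out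
  have hgoal : (fun i => f.symm (v i)) ∈ setOf fun v : Fin 5 → ZMod p => (fun i => f (v i)) ∈ Y := by
    have hcases : p = 3 ∨ p = 5 ∨ p = 7 := by
      have := hpp.two_le
      interval_cases p <;> first | omega | exact absurd hpp (by norm_num)
    rcases hcases with rfl | rfl | rfl
    · exact units3 hY' hy' hr' _ hv'
    · exact units5 hY' hy' hr' _ hv'
    · exact units7 hY' hy' hr' _ hv'
  have hg : (fun i => f (f.symm (v i))) ∈ Y := hgoal
  simpa using hg

end Cfsg.Agent.TableRelax.Mono
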