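import Cfsg.Agent.Lib.SpFrame96.Rough

/-!
Five pairwise orthogonal roots cannot all be diagonals.
-/

set_option autoImplicit false

namespace Cfsg.Agent.TableRelax.Mono

open Matrix

variable {F : Type*} [Field F] [Fintype F]

/-- A diagonal of the coordinate plane of `a`, `b`. -/
def KDiag (v : Fin 5 → F) (a b : Fin 5) : Prop :=
  a ≠ b ∧ 2 * (v a * v a) = 1 ∧ 2 * (v b * v b) = 1 ∧ ∀ i, i ≠ a → i ≠ b → v i = 0

theorem KDiag.dot {v : Fin 5 → F} {a b : Fin 5} (h : KDiag v a b) (w : Fin 5 → F) :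
    v ⬝ᵥ w = v a * w a + v b * w b := by
  classical
  rw [dotProduct, ← Finset.sum_subset (Finset.subset_univ {a, b}) (fun i _ hi => ?_),
    Finset.sum_pair h.1]
  simp only [Finset.mem_insert, Finset.mem_singleton, not_or] at hi
  rw [h.2.2.2 i hi.1 hi.2, zero_mul]

theorem KDiag.ne_zero {v : Fin 5 → F} {a b : Fin 5} (h : KDiag v a b) : v a ≠ 0 ∧ v b ≠ 0 :=
  ⟨fun e0 => by simpa [e0] using h.2.1, fun e0 => by simpa [e0] using h.2.2.1⟩

theorem KDiag.mem_iff {v : Fin 5 → F} {a b : Fin 5} (h : KDiag v a b) (i : Fin 5) :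
    i ∈ ({a, b} : Finset (Fin 5)) ↔ v i ≠ 0 := by
  simp only [Finset.mem_insert, Finset.mem_singleton]
  refine ⟨?_, fun hi => ?_⟩
  · rintro (rfl | rfl)
    · exact h.ne_zero.1
    · exact h.ne_zero.2
  · by_contra hcon; push Not at hcon; exact hi (h.2.2.2 i hcon.1 hcon.2)

theorem no_five_diags (h2 : (2 : F) ≠ 0) {v : Fin 5 → Fin 5 → F}
    (horth : ∀ i j, i ≠ j → v i ⬝ᵥ v j = 0) : ¬ ∀ i, ∃ a b, KDiag (v i) a b := by
  classical
  intro hall
  choose a b hd using hall
  -- supports are equal or disjoint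
  have hshare : ∀ i j, ¬ Disjoint ({a i, b i} : Finset (Fin 5)) {a j, b j} →
      ({a i, b i} : Finset (Fin 5)) = {a j, b j} := fun i j hnd => by
    by_cases hij : i = j
    · rw [hij]
    obtain ⟨k, hki, hkj⟩ := Finset.not_disjoint_iff.mp hnd
    have hcard : ∀ i, ({a i, b i} : Finset (Fin 5)).card = 2 := fun i => Finset.card_pair (hd i).1
    by_contra hne
    have hint : ({a i, b i} : Finset (Fin 5)) ∩ {a j, b j} = {k} := by
      refine (Finset.eq_of_subset_of_card_le (Finset.singleton_subset_iff.mpr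
        (Finset.mem_inter.mpr ⟨hki, hkj⟩)) ?_).symm
      by_contra hlt
      rw [Finset.card_singleton, not_le] at hlt
      have hsub := Finset.eq_of_subset_of_card_le (Finset.inter_subset_left
        (s₁ := ({a i, b i} : Finset (Fin 5))) (s₂ := {a j, b j})) (by rw [hcard]; omega)
      exact hne (Finset.eq_of_subset_of_card_le (hsub ▸ Finset.inter_subset_right) (by rw [hcard, hcard]))
    have := horth i j hij
    rw [dotProduct, Finset.sum_eq_single k (fun m _ hm => ?_) (by simp)] at this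
    · exact mul_ne_zero (((hd i).mem_iff k).mp hki) (((hd j).mem_iff k).mp hkj) this
    · by_contra hne'
      obtain ⟨hi, hj⟩ := mul_ne_zero_iff.mp hne'
      have : m ∈ ({k} : Finset (Fin 5)) := hint ▸ Finset.mem_inter.mpr
        ⟨((hd i).mem_iff m).mpr hi, ((hd j).mem_iff m).mpr hj⟩
      exact hm (Finset.mem_singleton.mp this)
  set T := Finset.univ.image fun i => ({a i, b i} : Finset (Fin 5))
  have hT : T.card * 2 ≤ 5 := by
    have hdisj : ∀ S ∈ T, ∀ S' ∈ T, S ≠ S' → Disjoint S S' := fun S hS S' hS' hne => by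
      obtain ⟨i, -, rfl⟩ := Finset.mem_image.mp hS
      obtain ⟨j, -, rfl⟩ := Finset.mem_image.mp hS'
      by_contra hnd; exact hne (hshare i j hnd)
    have := Finset.card_biUnion (t := id) hdisj
    have hle : (T.biUnion id).card ≤ 5 := le_of_le_of_eq (Finset.card_le_univ _) (Fintype.card_fin 5)
    rw [this, Finset.sum_congr rfl (fun S hS => ?_), Finset.sum_const, smul_eq_mul] at hle
    · exact hle
    · obtain ⟨i, -, rfl⟩ := Finset.mem_image.mp hS
      exact Finset.card_pair (hd i).1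
  obtain ⟨S, -, hS⟩ := Finset.exists_lt_card_fiber_of_mul_lt_card_of_maps_to
    (s := Finset.univ) (t := T) (n := 2) (fun i _ => Finset.mem_image_of_mem _ (Finset.mem_univ i))
    (by rw [Finset.card_univ, Fintype.card_fin]; omega)
  obtain ⟨i, j, k, hi, hj, hk, hij, hik, hjk⟩ := Finset.two_lt_card_iff.mp hS
  simp only [Finset.mem_filter, Finset.mem_univ, true_and] at hi hj hk
  have hsame : ∀ {l}, ({a l, b l} : Finset (Fin 5)) = S → KDiag (v l) (a i) (b i) := by
    intro l hl
    have he : ∀ m, v l m ≠ 0 ↔ v i m ≠ 0 := fun m => by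
      rw [← (hd l).mem_iff, ← (hd i).mem_iff, hl, hi]
    have hsq : ∀ m, v i m ≠ 0 → 2 * (v l m * v l m) = 1 := fun m hm => by
      have hm' := ((hd l).mem_iff m).mpr ((he m).mpr hm)
      rcases Finset.mem_insert.mp hm' with rfl | hm''
      · exact (hd l).2.1
      · rw [Finset.mem_singleton.mp hm'']; exact (hd l).2.2.1
    refine ⟨(hd i).1, hsq _ (hd i).ne_zero.1, hsq _ (hd i).ne_zero.2, fun m h1 h3 => ?_⟩
    by_contra hne
    exact ((he m).mp hne) ((hd i).2.2.2 m h1 h3)
  have di := hd i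
  have dj := hsame hj
  have dk := hsame hk
  have oij := horth i j hij
  have oik := horth i k hik
  have ojk := horth j k hjk
  rw [di.dot] at oij oik
  rw [dj.dot] at ojk
  refine mul_ne_zero (mul_ne_zero dj.ne_zero.1 dk.ne_zero.1) h2 ?_
  linear_combination -(v j (a i) * v k (a i)) * (di.2.1 + di.2.2.1) +
    2 * (v k (a i) * v i (a i)) * oij - 2 * (v i (b i) * v j (b i)) * oik +
    2 * (v i (b i) * v i (b i)) * ojk

end Cfsg.Agent.TableRelax.Mono
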