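import Cfsg.Agent.Lib.Elusive19.Pauli4.Intertwine
import Cfsg.Agent.Lib.Elusive19.Pauli4.Symp
import Cfsg.Agent.Lib.SpFrame96.AllUnits

/-!
A symplectic-type group of minus type in `Sp₄`: five anticommuting involutions span the self-adjoint matrices of
trace zero, and conjugation is orthogonal on their span.
-/

set_option autoImplicit false

namespace Cfsg.Agent.Lib.SpFrame96

open Matrix Cfsg.Agent.Lib.Elusive19.Pauli4
open Cfsg.Agent.TableRelax.Mono (e R P)

local notation "I4" => Fin 2 ⊕ Fin 2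

variable {F : Type*} [Field F]

local notation "J4" => Matrix.J (Fin 2) F
local notation "Mat" => Matrix I4 I4 F

/-- The five words with square one. -/
def wv : Fin 5 → E := ![(1, 0, 0, 0), (0, 1, 0, 0), (1, 1, 1, 0), (1, 1, 0, 1), (1, 1, 1, 1)]

theorem wv_injective : Function.Injective wv := by decide

theorem wv_qf : ∀ i, qf (wv i) = 0 ∧ wv i ≠ 0 := by decide

theorem wv_bf : ∀ i j, i ≠ j → bf (wv i) (wv j) = 1 := by decide

theorem wv_range : ∀ w : E, qf w = 1 ∨ w = 0 ∨ ∃ i, wv i = w := by decide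

variable {S : Subgroup (GL I4 F)} (Q : Quad S)

/-- The linear combinations of the five involutions. -/
def V (a : Fin 5 → F) : Mat := ∑ i, a i • Q.Wm (wv i)

theorem V_add (a b : Fin 5 → F) : V Q (a + b) = V Q a + V Q b := by
  simp [V, add_smul, Finset.sum_add_distrib]

theorem V_smul (c : F) (a : Fin 5 → F) : V Q (c • a) = c • V Q a := by
  simp [V, Finset.smul_sum, smul_smul]

theorem V_sub (a b : Fin 5 → F) : V Q (a - b) = V Q a - V Q b := by
  simp [V, sub_smul, Finset.sum_sub_distrib]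

theorem V_neg (a : Fin 5 → F) : V Q (-a) = -V Q a := by
  simp [V, neg_smul, Finset.sum_neg_distrib]

theorem V_e (i : Fin 5) : V Q (e i) = Q.Wm (wv i) := by
  rw [V, Finset.sum_eq_single i]
  · rw [Cfsg.Agent.TableRelax.Mono.e_same, one_smul]
  · intro j _ hj; rw [Cfsg.Agent.TableRelax.Mono.e_ne hj, zero_smul]
  · simp

theorem anticomm (a b : Fin 5 → F) : V Q a * V Q b + V Q b * V Q a = (2 * (a ⬝ᵥ b)) • (1 : Mat) := by
  have hij : ∀ i j, Q.Wm (wv i) * Q.Wm (wv j) + Q.Wm (wv j) * Q.Wm (wv i) =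
      if i = j then (2 : F) • (1 : Mat) else 0 := fun i j => by
    split_ifs with h
    · subst h
      have := Q.W_sq (wv i)
      rw [(wv_qf i).1, sgn_zero, one_smul] at this
      simp only [Quad.Wm, this, two_smul]
    · have := Q.W_anti (wv_bf i j h)
      simp only [Quad.Wm, this, neg_add_cancel]
  have hexp : ∀ a b : Fin 5 → F,
      V Q a * V Q b = ∑ i, ∑ j, (a i * b j) • (Q.Wm (wv i) * Q.Wm (wv j)) := fun a b => by
    simp only [V, Finset.sum_mul, Finset.mul_sum, smul_mul_assoc, mul_smul_comm, Finset.smul_sum,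
      smul_smul, mul_comm]
    exact Finset.sum_comm
  rw [hexp a b, hexp b a, Finset.sum_comm (f := fun i j => (b i * a j) • _)]
  simp only [← Finset.sum_add_distrib, mul_comm (b _) (a _), ← smul_add, hij, smul_ite, smul_zero,
    Finset.sum_ite_eq, Finset.mem_univ, if_true]
  rw [dotProduct, Finset.mul_sum, Finset.sum_smul]
  exact Finset.sum_congr rfl fun i _ => by rw [smul_smul]; congr 1; ring

theorem V_sq (h2 : (2 : F) ≠ 0) (a : Fin 5 → F) : V Q a * V Q a = (a ⬝ᵥ a) • (1 : Mat) := by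
  have h := anticomm Q a a
  rw [← two_smul F, mul_smul] at h
  exact smul_right_injective Mat h2 h

theorem V_injective (h2 : (2 : F) ≠ 0) : Function.Injective (V Q) := fun a b h => by
  refine funext fun i => ?_
  have h1 := anticomm Q a (e i)
  rw [h, anticomm Q b (e i), Cfsg.Agent.TableRelax.Mono.dot_e, Cfsg.Agent.TableRelax.Mono.dot_e] at h1
  exact (mul_left_cancel₀ h2 (smul_left_injective F one_ne_zero h1)).symm

theorem trace_V (h2 : (2 : F) ≠ 0) (a : Fin 5 → F) : (V Q a).trace = 0 := by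
  simp [V, Matrix.trace_sum, Q.trace_Wm h2 (wv_qf _).2]

/-- The reflection formula. -/
theorem V_conj (h2 : (2 : F) ≠ 0) {u : Fin 5 → F} (hu : u ⬝ᵥ u ≠ 0) (w : Fin 5 → F) :
    V Q u * V Q w * V Q u = -((u ⬝ᵥ u) • V Q (R u w)) := by
  have h := anticomm Q u w
  rw [eq_comm, ← sub_eq_iff_eq_add] at h
  rw [← h, sub_mul, mul_assoc, V_sq Q h2, Cfsg.Agent.TableRelax.Mono.R_apply, V_sub, V_smul, smul_sub,
    smul_smul, mul_smul_comm, mul_one, smul_mul_assoc, one_mul, mul_div_cancel₀ _ hu]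
  abel

/-- A unit vector as a group element. -/
def Vu (h2 : (2 : F) ≠ 0) (u : Fin 5 → F) (hu : u ⬝ᵥ u = 1) : GL I4 F :=
  ⟨V Q u, V Q u, by rw [V_sq Q h2, hu, one_smul], by rw [V_sq Q h2, hu, one_smul]⟩

theorem Vu_e (h2 : (2 : F) ≠ 0) (i : Fin 5) :
    Vu Q h2 (e i) (Cfsg.Agent.TableRelax.Mono.e_dot_self i) = Q.W (wv i) :=
  Units.ext (V_e Q i)

variable (hS : S ≤ Cfsg.spGL 2 F)

theorem transpose_J {g : GL I4 F} (hg : g ∈ Cfsg.spGL 2 F) :
    (g : Mat)ᵀ * J4 = J4 * ((g⁻¹ : GL I4 F) : Mat) := by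
  calc (g : Mat)ᵀ * J4 = (g : Mat)ᵀ * J4 * ((g : Mat) * ((g⁻¹ : GL I4 F) : Mat)) := by
        rw [Units.mul_inv, mul_one]
    _ = J4 * ((g⁻¹ : GL I4 F) : Mat) := by rw [← mul_assoc, mat_of_mem_spGL hg]

include hS

theorem V_adjoint (a : Fin 5 → F) : (V Q a)ᵀ * J4 = J4 * V Q a := by
  simp only [V, Matrix.transpose_sum, Finset.sum_mul, Finset.mul_sum, Matrix.transpose_smul,
    smul_mul_assoc, mul_smul_comm]
  refine Finset.sum_congr rfl fun i _ => ?_
  have hinv : ((Q.W (wv i))⁻¹ : GL I4 F) = Q.W (wv i) := inv_eq_of_mul_eq_one_right (Units.ext (by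
    have := Q.W_sq (wv i)
    rw [(wv_qf i).1, sgn_zero, one_smul] at this
    rw [Units.val_mul, this, Units.val_one]))
  have := transpose_J (hS (Q.W_mem (wv i)))
  rw [hinv] at this
  rw [Quad.Wm, this]

/-- The span is everything self-adjoint of trace zero. -/
theorem exists_eq_V (h2 : (2 : F) ≠ 0) {X : Mat} (hX : Xᵀ * J4 = J4 * X) (htr : X.trace = 0) :
    ∃ a, X = V Q a := by
  classical
  have hι : Fintype.card I4 = 4 := rfl
  set c := fun w => (Q.basis hι h2).repr X w with hc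
  have hsum : ∑ w, c w • Q.Wm w = X := Q.sum_repr hι h2 X
  have hadj : ∀ w, (Q.Wm w)ᵀ * J4 = (sgn (qf w) : F) • (J4 * Q.Wm w) := fun w => by
    have h1 := transpose_J (hS (Q.W_mem w))
    have h3 : ((Q.W w)⁻¹ : GL I4 F) = (sgn (qf w) : F) • Q.Wm w := by
      refine Units.inv_eq_of_mul_eq_one_right ?_
      rw [mul_smul_comm, Quad.Wm, Q.W_sq, smul_smul, sgn_sq, one_smul]
    rw [Quad.Wm, h1, h3, mul_smul_comm]; rfl
  have hz : ∀ w, qf w = 1 → c w = 0 := by
    have h0 : ∑ w, (c w * ((sgn (qf w) : F) - 1)) • Q.Wm w = 0 := by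
      have hJ : IsUnit J4 := ⟨⟨J4, -J4, by rw [mul_neg, Matrix.J_squared, neg_neg],
        by rw [neg_mul, Matrix.J_squared, neg_neg]⟩, rfl⟩
      refine hJ.mul_left_cancel ?_
      rw [mul_zero, ← sub_eq_zero.mpr hX, ← hsum]
      simp only [Matrix.transpose_sum, Finset.sum_mul, Finset.mul_sum, Matrix.transpose_smul,
        smul_mul_assoc, mul_smul_comm, hadj, ← Finset.sum_sub_distrib, smul_smul, ← sub_smul, mul_sub,
        mul_one]
    intro w hw
    have := Fintype.linearIndependent_iff.mp (Q.linearIndependent hι h2) _ h0 w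
    rw [hw, sgn_one] at this
    exact (mul_eq_zero.mp this).resolve_right (fun h => h2 (by linear_combination -h))
  have hz0 : c 0 = 0 := by
    have := congrArg Matrix.trace hsum
    rw [htr, Matrix.trace_sum, Finset.sum_eq_single 0 (fun w _ hw => by
      rw [Matrix.trace_smul, Q.trace_Wm h2 hw, smul_zero]) (by simp), Matrix.trace_smul, Quad.Wm_zero,
      Matrix.trace_one, hι, smul_eq_mul] at this
    exact (mul_eq_zero.mp this).resolve_right (by
      rw [show ((4 : ℕ) : F) = 2 * 2 by norm_num]; exact mul_ne_zero h2 h2)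
  refine ⟨fun i => c (wv i), hsum.symm.trans ?_⟩
  rw [V, ← Finset.sum_image (s := Finset.univ) (g := wv) (f := fun w => c w • Q.Wm w)
    (fun i _ j _ h => wv_injective h)]
  refine (Finset.sum_subset (Finset.subset_univ _) fun w _ hw => ?_).symm
  rcases wv_range w with h | h | ⟨i, hi⟩
  · rw [hz w h, zero_smul]
  · rw [h, hz0, zero_smul]
  · exact absurd (Finset.mem_image.mpr ⟨i, Finset.mem_univ _, hi⟩) hw

theorem Vu_mem (h2 : (2 : F) ≠ 0) {u : Fin 5 → F} (hu : u ⬝ᵥ u = 1) :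
    Vu Q h2 u hu ∈ Cfsg.spGL 2 F := by
  refine mem_spGL_of_mat ?_
  show (V Q u)ᵀ * J4 * V Q u = J4
  rw [V_adjoint Q hS, mul_assoc, V_sq Q h2, hu, one_smul, mul_one]

/-- Conjugation by an isometry keeps the span and its form. -/
theorem exists_image (h2 : (2 : F) ≠ 0) {g : GL I4 F} (hg : g ∈ Cfsg.spGL 2 F) :
    ∃ f : (Fin 5 → F) →ₗ[F] (Fin 5 → F), (∀ a, (g : Mat) * V Q a * ((g⁻¹ : GL I4 F) : Mat) = V Q (f a)) ∧
      ∀ a b, f a ⬝ᵥ f b = a ⬝ᵥ b := by
  have hex : ∀ a, ∃ b, (g : Mat) * V Q a * ((g⁻¹ : GL I4 F) : Mat) = V Q b := fun a => by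
    refine exists_eq_V Q hS h2 ?_ ?_
    · have h1 := transpose_J hg
      have h3 := transpose_J (Subgroup.inv_mem _ hg)
      rw [inv_inv] at h3
      rw [Matrix.transpose_mul, Matrix.transpose_mul]
      calc _ = ((g⁻¹ : GL I4 F) : Mat)ᵀ * (V Q a)ᵀ * ((g : Mat)ᵀ * J4) := by simp only [mul_assoc]
        _ = ((g⁻¹ : GL I4 F) : Mat)ᵀ * ((V Q a)ᵀ * J4) * ((g⁻¹ : GL I4 F) : Mat) := by
            rw [h1]; simp only [mul_assoc]
        _ = _ := by rw [V_adjoint Q hS, ← mul_assoc _ J4, h3]; simp only [mul_assoc]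
    · rw [Matrix.trace_mul_comm, ← mul_assoc, Units.inv_mul, one_mul, trace_V Q h2]
  choose f hf using hex
  refine ⟨{ toFun := f, map_add' := fun a b => V_injective Q h2 ?_, map_smul' := fun c a => V_injective Q h2 ?_ },
    hf, fun a b => ?_⟩
  · rw [V_add, ← hf, ← hf, ← hf, V_add, mul_add, add_mul]
  · rw [RingHom.id_apply, V_smul, ← hf, ← hf, V_smul, mul_smul_comm, smul_mul_assoc]
  · show f a ⬝ᵥ f b = a ⬝ᵥ b
    have h1 := anticomm Q (f a) (f b)
    have hmul : ∀ a b, V Q (f a) * V Q (f b) =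
        (g : Mat) * (V Q a * V Q b) * ((g⁻¹ : GL I4 F) : Mat) := fun a b => by
      rw [← hf, ← hf]
      calc _ = (g : Mat) * V Q a * (((g⁻¹ : GL I4 F) : Mat) * (g : Mat)) * V Q b *
            ((g⁻¹ : GL I4 F) : Mat) := by simp only [mul_assoc]
        _ = _ := by rw [Units.inv_mul, mul_one]; simp only [mul_assoc]
    rw [hmul, hmul, ← add_mul, ← mul_add, anticomm Q a b, mul_smul_comm, mul_one, smul_mul_assoc,
      Units.mul_inv] at h1
    exact (mul_left_cancel₀ h2 (smul_left_injective F one_ne_zero h1)).symm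

end Cfsg.Agent.Lib.SpFrame96
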