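import Cfsg.Agent.Lib.SpFrame96.Triple
import Cfsg.Agent.Lib.TableRelax.Mono.Engine

/-!
Sets of unit vectors containing the axes, closed under even coordinate permutations and under their own
reflections: one transitive plane gives all unit vectors.  (After `TableRelax/Mono`, for an abstract set.)
-/

set_option autoImplicit false

namespace Cfsg.Agent.TableRelax.Mono

open Matrix

variable {F : Type*} [Field F] {n : ℕ}

/-- The standing hypotheses. -/
structure Closed (Y : Set (Fin n → F)) : Prop extends Mirror Y where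
  two : (2 : F) ≠ 0
  dim : 5 ≤ n
  inY_e : ∀ i, e i ∈ Y
  inY_perm : ∀ σ : Equiv.Perm (Fin n), Equiv.Perm.sign σ = 1 → ∀ y ∈ Y, P σ y ∈ Y

/-- Some coordinate plane has all its units in the set. -/
def KPlane (Y : Set (Fin n → F)) : Prop :=
  ∃ a b : Fin n, a ≠ b ∧ ∀ α β : F, α * α + β * β = 1 → α • e a + β • e b ∈ Y

/-- Equal norms on three coordinates are exchanged. -/
def KCoordTrans (Y : Set (Fin n → F)) (a b c : Fin n) : Prop :=
  ∀ x x' : Fin n → F, (∀ i, i ≠ a → i ≠ b → i ≠ c → x i = 0) →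
    (∀ i, i ≠ a → i ≠ b → i ≠ c → x' i = 0) → x ⬝ᵥ x ≠ 0 → x ⬝ᵥ x = x' ⬝ᵥ x' →
    ∃ g, Keep Y g ∧ (∀ w : Fin n → F, w a = 0 → w b = 0 → w c = 0 → g w = w) ∧ g x = x'

theorem kcoordTrans_of_frame {Y : Set (Fin n → F)} {T : Frame F n}
    (hT : T.KTransit Y) {a b c : Fin n} (hab : a ≠ b) (hac : a ≠ c) (hbc : b ≠ c) {γ : F}
    (hγ : γ ≠ 0) (h₁ : T.f₁ = e a) (h₂ : T.f₂ = e b) (h₃ : T.f₃ = γ • e c) :
    KCoordTrans Y a b c := by
  intro x x' hx hx' h0 heq
  have hι : ∀ z : Fin n → F, (∀ i, i ≠ a → i ≠ b → i ≠ c → z i = 0) →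
      T.ι (z a, z b, z c / γ) = z := fun z hz => by
    ext i
    simp only [Frame.ι, h₁, h₂, h₃, Pi.add_apply, Pi.smul_apply, smul_eq_mul]
    by_cases h1 : i = a
    · subst h1; rw [e_same, e_ne hab, e_ne hac]; ring
    by_cases h4 : i = b
    · subst h4; rw [e_same, e_ne (Ne.symm hab), e_ne hbc]; ring
    by_cases h5 : i = c
    · subst h5; rw [e_same, e_ne (Ne.symm hac), e_ne (Ne.symm hbc)]; field_simp; ring
    rw [e_ne h1, e_ne h4, e_ne h5, hz i h1 h4 h5]; ring
  have hq : ∀ z, (∀ i, i ≠ a → i ≠ b → i ≠ c → z i = 0) →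
      Model.q T.ρ (z a, z b, z c / γ) (z a, z b, z c / γ) = z ⬝ᵥ z := fun z hz => by
    rw [← T.ι_dot, hι z hz]
  obtain ⟨g, hg, hgw, hgx⟩ := hT (x a, x b, x c / γ) (x' a, x' b, x' c / γ)
    (by rw [hq x hx]; exact h0) (by rw [hq x hx, hq x' hx', heq])
  rw [hι x hx, hι x' hx'] at hgx
  refine ⟨g, hg, fun w wa wb wc => hgw w ⟨?_, ?_, ?_⟩, hgx⟩
  · rw [h₁, e_dot, wa]
  · rw [h₂, e_dot, wb]
  · rw [h₃, smul_dotProduct, e_dot, wc, smul_zero]

namespace Closed

variable {Y : Set (Fin n → F)} (h : Closed Y)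

include h

theorem inY_R {v w : Fin n → F} (hv : v ∈ Y) (hw : w ∈ Y) : R w v ∈ Y := h.refl _ hv _ hw

theorem inY_flip {v : Fin n → F} (hv : v ∈ Y) (i : Fin n) : R (e i) v ∈ Y := h.inY_R hv (h.inY_e i)

theorem four_ne : (4 : F) ≠ 0 := by
  rw [show (4 : F) = 2 * 2 by norm_num]; exact mul_ne_zero h.two h.two

theorem inY_turn {y : Fin n → F} (hy : y ∈ Y) (a : Fin n) : turn y a ∈ Y := by
  have := h.inY_R (h.inY_e a) hy
  rwa [R_unit (h.unit _ hy), dot_e] at this

theorem inY_of_sq {v w : Fin n → F} (hw : KMem Y w) (hsq : ∀ i, v i * v i = w i * w i) :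
    KMem Y v := by
  classical
  induction hm : (Finset.univ.filter fun i => v i ≠ w i).card generalizing w with
  | zero =>
    rw [Finset.card_eq_zero, Finset.filter_eq_empty_iff] at hm
    have : v = w := funext fun i => by simpa using hm (Finset.mem_univ i)
    rwa [this]
  | succ m ih =>
    obtain ⟨i, hi⟩ := Finset.card_pos.mp (by omega :
      0 < (Finset.univ.filter fun i => v i ≠ w i).card)
    have hne := (Finset.mem_filter.mp hi).2
    have hneg := (mul_self_eq_mul_self_iff.mp (hsq i)).resolve_left hne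
    refine ih (h.inY_flip hw i) (fun j => ?_) ?_
    · rw [R_e_apply]
      split_ifs with hj
      · subst hj; rw [hneg]
      · exact hsq j
    · have : (Finset.univ.filter fun j => v j ≠ R (e i) w j) =
          (Finset.univ.filter fun j => v j ≠ w j).erase i := by
        ext j
        by_cases hj : j = i
        · subst hj; simp [R_e_apply, hneg]
        · simp [R_e_apply, hj]
      rw [this, Finset.card_erase_of_mem hi, hm]
      omega

theorem inY_perm_sq {σ : Equiv.Perm (Fin n)} (hσ : Equiv.Perm.sign σ = 1) {v w : Fin n → F}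
    (hw : KMem Y w) (hsq : ∀ i, v (σ i) * v (σ i) = w i * w i) : KMem Y v :=
  h.inY_of_sq (h.inY_perm σ hσ _ hw) fun j => by
    rw [P_apply]; simpa using hsq (σ.symm j)

/-- Exchanging a coordinate with a zero one. -/
theorem inY_swap {y : Fin n → F} (hy : KMem Y y) {a b b' d : Fin n} (hd : y d = 0) (had : a ≠ d)
    (hbb : b ≠ b') (hba : b ≠ a) (hbd : b ≠ d) (hba' : b' ≠ a) (hbd' : b' ≠ d)
    (hsq : y b * y b = y b' * y b') : KMem Y (y - y a • e a + y a • e d) := by
  refine h.inY_perm_sq (σ := Equiv.swap a d * Equiv.swap b b') ?_ hy fun i => ?_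
  · rw [map_mul, Equiv.Perm.sign_swap had, Equiv.Perm.sign_swap hbb]; rfl
  simp only [Equiv.Perm.mul_apply, Pi.add_apply, Pi.sub_apply, Pi.smul_apply, smul_eq_mul]
  by_cases h1 : i = a
  · subst h1
    rw [Equiv.swap_apply_of_ne_of_ne (Ne.symm hba) (Ne.symm hba'), Equiv.swap_apply_left, hd,
      e_same, e_ne (Ne.symm had)]
    ring
  by_cases h3 : i = d
  · subst h3
    rw [Equiv.swap_apply_of_ne_of_ne (Ne.symm hbd) (Ne.symm hbd'), Equiv.swap_apply_right, hd,
      e_same, e_ne had]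
    ring
  by_cases h5 : i = b
  · subst h5
    rw [Equiv.swap_apply_left, Equiv.swap_apply_of_ne_of_ne hba' hbd', e_ne hba', e_ne hbd']
    linear_combination -hsq
  by_cases h6 : i = b'
  · subst h6
    rw [Equiv.swap_apply_right, Equiv.swap_apply_of_ne_of_ne hba hbd, e_ne hba, e_ne hbd]
    linear_combination hsq
  rw [Equiv.swap_apply_of_ne_of_ne h5 h6, Equiv.swap_apply_of_ne_of_ne h1 h3, e_ne h1, e_ne h3]
  ring


variable [Fintype F] {p : ℕ} [Fact p.Prime] (hF : Fintype.card F = p) (hp2 : p ≠ 2)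

include hF hp2

/-- Transitivity in the frame of `y`, `e a`, `e b`. -/
theorem transit_A {y : Fin n → F} (hy : KMem Y y) {a b : Fin n} (hab : a ≠ b) (hb : y b ≠ 0)
    (hg : Good (4 * (y a * y a))) (hρ : 1 - y a * y a - y b * y b ≠ 0)
    (hρ1 : 1 - y a * y a - y b * y b ≠ 1) : (frameA (h.unit _ hy) hab hρ).KTransit Y := by
  have hu : (frameA (h.unit _ hy) hab hρ).ι (y a, y b, 1) = y := by
    simp only [Frame.ι, frameA, one_smul]; abel
  have hv : (frameA (h.unit _ hy) hab hρ).ι ((1, 0, 0) : F × F × F) = e a := by simp [Frame.ι, frameA]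
  have hw : (frameA (h.unit _ hy) hab hρ).ι ((0, 1, 0) : F × F × F) = e b := by simp [Frame.ι, frameA]
  refine Frame.ktransit_of_three _ h.two hF hp2 h.toMirror (u := (y a, y b, 1)) (v := (1, 0, 0))
    (w := (0, 1, 0)) (u' := (y a, y b, 1)) (v' := (1, 0, 0)) (w' := (0, 1, 0))
    (a := y a) (b := y b) (c := 0) (a' := y a) (b' := y b) (c' := 0)
    ?_ ?_ ?_ ?_ ?_ ?_ ?_ ?_ hb hg ⟨?_, ?_⟩
  · intro x hx
    simp only [List.mem_cons, List.not_mem_nil, or_false] at hx
    have e1 : Model.q (frameA (h.unit _ hy) hab hρ).ρ (y a, y b, 1) (y a, y b, 1) = 1 := by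
      simp only [Model.q, frameA]; ring
    rcases hx with rfl | rfl | rfl | rfl | rfl | rfl
    all_goals first
      | exact ⟨e1, by rw [hu]; exact hy⟩
      | exact ⟨by simp [Model.q], by rw [hv]; exact h.inY_e a⟩
      | exact ⟨by simp [Model.q], by rw [hw]; exact h.inY_e b⟩
  all_goals try simp only [Model.q, frameA]
  any_goals ring
  · intro h0; exact hρ (by linear_combination h0)
  · intro h0; exact hρ (by linear_combination h0)
  · intro h0; exact hρ1 (by linear_combination h0)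

/-- Transitivity in the frame of `y`, `e a`, `e d`. -/
theorem transit_B {y : Fin n → F} (hy : KMem Y y) {a d : Fin n} (had : a ≠ d) (hd : y d = 0)
    (hy' : KMem Y (y - y a • e a + y a • e d)) (ha : y a ≠ 0) (hρ : 1 - y a * y a ≠ 0)
    (hg : Good (4 * (y a * y a)) ∨ Good (4 * ((1 - y a * y a) * (1 - y a * y a)))) :
    (frameB (h.unit _ hy) had hd hρ).KTransit Y := by
  have hu : (frameB (h.unit _ hy) had hd hρ).ι (y a, 0, 1) = y := by
    simp [Frame.ι, frameB]
  have hv : (frameB (h.unit _ hy) had hd hρ).ι ((1, 0, 0) : F × F × F) = e a := by simp [Frame.ι, frameB]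
  have hd' : (frameB (h.unit _ hy) had hd hρ).ι ((0, 1, 0) : F × F × F) = e d := by simp [Frame.ι, frameB]
  have hw : (frameB (h.unit _ hy) had hd hρ).ι ((0, y a, 1) : F × F × F) = y - y a • e a + y a • e d := by
    simp only [Frame.ι, frameB, one_smul, zero_smul]; abel
  have hunit : ∀ x ∈ [((y a, 0, 1) : F × F × F), (1, 0, 0), (0, y a, 1), (0, 1, 0)],
      Model.q (frameB (h.unit _ hy) had hd hρ).ρ x x = 1 ∧ KMem Y ((frameB (h.unit _ hy) had hd hρ).ι x) := by
    intro x hx
    simp only [List.mem_cons, List.not_mem_nil, or_false] at hx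
    rcases hx with rfl | rfl | rfl | rfl
    · exact ⟨by simp only [Model.q, frameB]; ring, by rw [hu]; exact hy⟩
    · exact ⟨by simp [Model.q], by rw [hv]; exact h.inY_e a⟩
    · exact ⟨by simp only [Model.q, frameB]; ring, by rw [hw]; exact hy'⟩
    · exact ⟨by simp [Model.q], by rw [hd']; exact h.inY_e d⟩
  have hΔ : 1 - y a * y a - (1 - y a * y a) * (1 - y a * y a) ≠ 0 := fun h0 =>
    mul_ne_zero (mul_ne_zero ha ha) hρ (by linear_combination h0)
  have hρ1 : 1 - y a * y a ≠ 1 := fun h0 => mul_ne_zero ha ha (by linear_combination -h0)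
  rcases hg with hg | hg
  · refine Frame.ktransit_of_three _ h.two hF hp2 h.toMirror (u := (y a, 0, 1)) (v := (1, 0, 0))
      (w := (0, y a, 1)) (u' := (1, 0, 0)) (v' := (0, 1, 0)) (w' := (y a, 0, 1))
      (a := y a) (b := 1 - y a * y a) (c := 0) (a' := 0) (b' := y a) (c' := 0)
      ?_ ?_ ?_ ?_ ?_ ?_ ?_ ?_ hρ hg ⟨?_, ?_⟩
    · intro x hx
      apply hunit
      simp only [List.mem_cons, List.not_mem_nil, or_false] at hx ⊢
      tauto
    all_goals try simp only [Model.q, frameB]
    any_goals ring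
    · intro h0; exact hΔ (by linear_combination h0)
    · intro h0; exact hρ (by linear_combination h0)
    · intro h0; exact hρ1 (by linear_combination h0)
  · refine Frame.ktransit_of_three _ h.two hF hp2 h.toMirror (u := (y a, 0, 1)) (v := (0, y a, 1))
      (w := (1, 0, 0)) (u' := (1, 0, 0)) (v' := (0, 1, 0)) (w' := (y a, 0, 1))
      (a := 1 - y a * y a) (b := y a) (c := 0) (a' := 0) (b' := y a) (c' := 0)
      ?_ ?_ ?_ ?_ ?_ ?_ ?_ ?_ ha hg ⟨?_, ?_⟩
    · intro x hx
      apply hunit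
      simp only [List.mem_cons, List.not_mem_nil, or_false] at hx ⊢
      tauto
    all_goals try simp only [Model.q, frameB]
    any_goals ring
    · intro h0; exact hΔ (by linear_combination h0)
    · intro h0; exact hρ (by linear_combination h0)
    · intro h0; exact hρ1 (by linear_combination h0)

/-- Units of the frame of `y`, `e a`, `e b`. -/
theorem unit_A {y : Fin n → F} (hy : KMem Y y) {a b : Fin n} (hab : a ≠ b) (hb : y b ≠ 0)
    (hg : Good (4 * (y a * y a))) (hρ : 1 - y a * y a - y b * y b ≠ 0)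
    (hρ1 : 1 - y a * y a - y b * y b ≠ 1) {α β γ : F}
    (hu : α * α + β * β + (1 - y a * y a - y b * y b) * (γ * γ) = 1) :
    KMem Y (α • e a + β • e b + γ • (y - y a • e a - y b • e b)) :=
  (h.transit_A hF hp2 hy hab hb hg hρ hρ1).unit (h.inY_e a)
    (x := (α, β, γ)) hu

/-- Units of the plane of `e a`, `e d`. -/
theorem unit_B {y : Fin n → F} (hy : KMem Y y) {a d : Fin n} (had : a ≠ d) (hd : y d = 0)
    (hy' : KMem Y (y - y a • e a + y a • e d)) (ha : y a ≠ 0) (hρ : 1 - y a * y a ≠ 0)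
    (hg : Good (4 * (y a * y a)) ∨ Good (4 * ((1 - y a * y a) * (1 - y a * y a)))) {α β : F}
    (hu : α * α + β * β = 1) : KMem Y (α • e a + β • e d) := by
  have := (h.transit_B hF hp2 hy had hd hy' ha hρ hg).unit (h.inY_e a) (x := (α, β, 0))
    (by simp only [Model.q, frameB]; linear_combination hu)
  simpa [Frame.ι, frameB] using this

omit hF hp2

/-- Transitivity moves to every triple. -/
theorem coordTrans_all {a b c : Fin n} (hab : a ≠ b) (hac : a ≠ c) (hbc : b ≠ c)
    (hT : KCoordTrans Y a b c) {a' b' c' : Fin n} (hab' : a' ≠ b') (hac' : a' ≠ c')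
    (hbc' : b' ≠ c') : KCoordTrans Y a' b' c' := by
  have := h.dim
  have hinj : ∀ {x y z : Fin n}, x ≠ y → x ≠ z → y ≠ z → Function.Injective ![x, y, z] := by
    intro x y z h1 h3 h5 i j hij
    fin_cases i <;> fin_cases j <;> simp_all
  obtain ⟨σ, hσ, hmap⟩ := exists_even_map ![a, b, c] ![a', b', c'] (hinj hab hac hbc)
    (hinj hab' hac' hbc') (by omega)
  have ha : σ a = a' := hmap 0
  have hb : σ b = b' := hmap 1
  have hc : σ c = c' := hmap 2
  have hσ' : Equiv.Perm.sign σ.symm = 1 := by rw [Equiv.Perm.sign_symm, hσ]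
  have hkeep : ∀ τ : Equiv.Perm (Fin n), Equiv.Perm.sign τ = 1 → Equiv.Perm.sign τ.symm = 1 →
      Keep Y (P τ) := fun τ hτ hτ' v => by
    refine ⟨fun hv => ?_, h.inY_perm τ hτ _⟩
    have h1 := h.inY_perm _ hτ' _ hv
    have e1 : P τ.symm (P τ v) = v := by
      have := P_symm_P τ.symm v
      rwa [Equiv.symm_symm] at this
    rwa [e1] at h1
  intro x x' hx hx' h0 heq
  have hs : ∀ z : Fin n → F, (∀ i, i ≠ a' → i ≠ b' → i ≠ c' → z i = 0) →
      ∀ i, i ≠ a → i ≠ b → i ≠ c → P σ.symm z i = 0 := fun z hz i h1 h3 h5 => by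
    rw [P_apply, Equiv.symm_symm]
    exact hz _ (fun e1 => h1 (σ.injective (e1.trans ha.symm)))
      (fun e1 => h3 (σ.injective (e1.trans hb.symm))) (fun e1 => h5 (σ.injective (e1.trans hc.symm)))
  obtain ⟨g, hg, hgw, hgx⟩ := hT (P σ.symm x) (P σ.symm x') (hs x hx) (hs x' hx')
    (by rw [P_iso]; exact h0) (by rw [P_iso, P_iso]; exact heq)
  refine ⟨P σ * g * P σ.symm, ((hkeep σ hσ hσ').mul hg).mul (hkeep _ hσ' (by simpa using hσ)),
    fun w wa wb wc => ?_, ?_⟩
  · rw [LinearEquiv.mul_apply, LinearEquiv.mul_apply, hgw _ ?_ ?_ ?_, P_symm_P] <;>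
      rw [P_apply, Equiv.symm_symm]
    · rw [ha, wa]
    · rw [hb, wb]
    · rw [hc, wc]
  · rw [LinearEquiv.mul_apply, LinearEquiv.mul_apply, hgx, P_symm_P]

/-- **Descent**: one transitive triple gives all unit vectors. -/
theorem all_units_of_coordTrans (h3 : (3 : F) ≠ 0) {a₀ b₀ c₀ : Fin n} (hab : a₀ ≠ b₀)
    (hac : a₀ ≠ c₀) (hbc : b₀ ≠ c₀) (hT : KCoordTrans Y a₀ b₀ c₀) (v : Fin n → F)
    (hv : v ⬝ᵥ v = 1) : KMem Y v := by
  classical
  have hn := h.dim
  induction hm : (supp v).card using Nat.strong_induction_on generalizing v with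
  | _ m ih =>
  subst hm
  have hsum := (sum_supp v).trans hv
  rcases Nat.lt_or_ge (supp v).card 3 with hsmall | hbig
  · obtain ⟨a, ha⟩ : (supp v).Nonempty := by
      rw [Finset.nonempty_iff_ne_empty]
      intro h0; rw [h0, Finset.sum_empty] at hsum; exact zero_ne_one hsum
    have hc2 : ((supp v).erase a).card ≤ 1 := by rw [Finset.card_erase_of_mem ha]; omega
    obtain ⟨b, hb, hbsub⟩ : ∃ b, b ≠ a ∧ ∀ i, i ≠ a → i ≠ b → v i = 0 := by
      obtain ⟨b₁, hb₁⟩ := exists_fresh ({a} : Finset (Fin n)) (by simp; omega)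
      by_cases he : ((supp v).erase a).Nonempty
      · obtain ⟨b, hb⟩ := he
        refine ⟨b, Finset.ne_of_mem_erase hb, fun i hia hib => not_mem_supp.mp fun hi => hib ?_⟩
        exact Finset.card_le_one.mp hc2 i (Finset.mem_erase.mpr ⟨hia, hi⟩) b hb
      · refine ⟨b₁, by simpa using hb₁, fun i hia _ => not_mem_supp.mp fun hi =>
          he ⟨i, Finset.mem_erase.mpr ⟨hia, hi⟩⟩⟩
    obtain ⟨c, hc⟩ := exists_fresh ({a, b} : Finset (Fin n))
      (lt_of_le_of_lt Finset.card_le_two (by omega))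
    simp only [Finset.mem_insert, Finset.mem_singleton, not_or] at hc
    obtain ⟨g, hg, -, hgx⟩ := h.coordTrans_all hab hac hbc hT (Ne.symm hb) (Ne.symm hc.1)
      (Ne.symm hc.2) (e a) v (fun i h1 _ _ => e_ne h1) (fun i h1 h4 _ => hbsub i h1 h4)
      (by rw [e_dot_self]; exact one_ne_zero) (by rw [e_dot_self, hv])
    rw [← hgx]
    exact (hg _).mpr (h.inY_e a)
  · -- a triple inside the support with non-zero norm
    obtain ⟨a, b, c, hab', hac', hbc', haS, hbS, hcS, hne⟩ : ∃ a b c, a ≠ b ∧ a ≠ c ∧ b ≠ c ∧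
        a ∈ supp v ∧ b ∈ supp v ∧ c ∈ supp v ∧ v a * v a + v b * v b + v c * v c ≠ 0 := by
      obtain ⟨a, b, c, haS, hbS, hcS, hab', hac', hbc'⟩ :=
        Finset.two_lt_card_iff.mp (show 2 < (supp v).card by omega)
      by_cases h0 : v a * v a + v b * v b + v c * v c = 0
      swap
      · exact ⟨a, b, c, hab', hac', hbc', haS, hbS, hcS, h0⟩
      obtain ⟨d, hd, hda⟩ : ∃ d ∈ supp v, d ≠ a ∧ d ≠ b ∧ d ≠ c := by
        by_contra hcon
        push Not at hcon
        have hS : supp v = {a, b, c} := by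
          ext i
          simp only [Finset.mem_insert, Finset.mem_singleton]
          refine ⟨fun hi => ?_, ?_⟩
          · by_contra hno; push Not at hno; exact hno.2.2 (hcon i hi hno.1 hno.2.1)
          · rintro (rfl | rfl | rfl) <;> assumption
        rw [hS, Finset.sum_insert (by simp [hab', hac']), Finset.sum_pair hbc', ← add_assoc,
          h0] at hsum
        exact zero_ne_one hsum
      obtain ⟨hda, hdb, hdc⟩ := hda
      by_cases h4 : v a * v a + v b * v b + v d * v d = 0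
      swap
      · exact ⟨a, b, d, hab', Ne.symm hda, Ne.symm hdb, haS, hbS, hd, h4⟩
      by_cases h5 : v a * v a + v c * v c + v d * v d = 0
      swap
      · exact ⟨a, c, d, hac', Ne.symm hda, Ne.symm hdc, haS, hcS, hd, h5⟩
      refine ⟨b, c, d, hbc', Ne.symm hdb, Ne.symm hdc, hbS, hcS, hd, fun h6 => ?_⟩
      exact mul_ne_zero (mul_ne_zero (mem_supp.mp haS) (mem_supp.mp haS)) h3
        (by linear_combination h0 + h4 + h5 - 2 * h6)
    obtain ⟨α, β, hαβ⟩ := exists_norm h.two (neg_ne_zero.mpr (one_ne_zero (α := F)))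
      (v a * v a + v b * v b + v c * v c)
    set x : Fin n → F := v a • e a + v b • e b + v c • e c with hx
    set x' : Fin n → F := α • e a + β • e b with hx'
    set w := v - x with hw
    have hxs : ∀ i, i ≠ a → i ≠ b → i ≠ c → x i = 0 := fun i h1 h4 h5 => by
      simp [hx, e_ne h1, e_ne h4, e_ne h5]
    have hxs' : ∀ i, i ≠ a → i ≠ b → i ≠ c → x' i = 0 := fun i h1 h4 _ => by
      simp [hx', e_ne h1, e_ne h4]
    have hwa : w a = 0 := by simp [hw, hx, e_same, e_ne hab', e_ne hac']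
    have hwb : w b = 0 := by simp [hw, hx, e_same, e_ne (Ne.symm hab'), e_ne hbc']
    have hwc : w c = 0 := by simp [hw, hx, e_same, e_ne (Ne.symm hac'), e_ne (Ne.symm hbc')]
    have hxx : x ⬝ᵥ x = v a * v a + v b * v b + v c * v c := by
      simp [hx, add_dotProduct, smul_dotProduct, e_dot, e_same, e_ne hab', e_ne (Ne.symm hab'),
        e_ne hac', e_ne (Ne.symm hac'), e_ne hbc', e_ne (Ne.symm hbc')]
    have hxx' : x' ⬝ᵥ x' = v a * v a + v b * v b + v c * v c := by
      simp [hx', add_dotProduct, smul_dotProduct, e_dot, e_same, e_ne hab', e_ne (Ne.symm hab')]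
      linear_combination hαβ
    obtain ⟨g, hg, hgw, hgx⟩ := h.coordTrans_all hab hac hbc hT hab' hac' hbc' x' x hxs' hxs
      (by rw [hxx']; exact hne) (by rw [hxx, hxx'])
    have hgv : g (x' + w) = v := by
      rw [map_add, hgx, hgw w hwa hwb hwc, hw, add_sub_cancel]
    have hxw : x ⬝ᵥ w = 0 := by
      simp [hx, add_dotProduct, smul_dotProduct, e_dot, hwa, hwb, hwc]
    have hxw' : x' ⬝ᵥ w = 0 := by
      simp [hx', add_dotProduct, smul_dotProduct, e_dot, hwa, hwb]
    have hunit : (x' + w) ⬝ᵥ (x' + w) = 1 := by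
      have e1 : v = x + w := by rw [hw, add_sub_cancel]
      have hsq : ∀ a b : Fin n → F, (a + b) ⬝ᵥ (a + b) = a ⬝ᵥ a + 2 * (a ⬝ᵥ b) + b ⬝ᵥ b :=
        fun a b => by
          rw [add_dotProduct, dotProduct_add, dotProduct_add, dotProduct_comm b a]; ring
      rw [hsq, hxw', hxx', ← hxx, ← hxw, ← hsq, ← e1, hv]
    have hlt : (supp (x' + w)).card < (supp v).card := by
      refine lt_of_le_of_lt (Finset.card_le_card (fun i hi => ?_))
        (Finset.card_erase_lt_of_mem hcS)
      rw [mem_supp, Pi.add_apply] at hi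
      rw [Finset.mem_erase, mem_supp]
      by_cases hic : i = c
      · subst hic; exact absurd (by rw [hwc, add_zero]; simp [hx', e_ne (Ne.symm hac'),
          e_ne (Ne.symm hbc')]) hi
      refine ⟨hic, fun h0 => ?_⟩
      by_cases hia : i = a
      · subst hia; exact mem_supp.mp haS h0
      by_cases hib : i = b
      · subst hib; exact mem_supp.mp hbS h0
      apply hi
      simp [hw, hx, hx', h0, e_ne hia, e_ne hib, e_ne hic]
    rw [← hgv]
    exact (hg _).mpr (ih _ hlt _ hunit rfl)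


include hF hp2

theorem units_of_plane (hp : 11 ≤ p) (hP : KPlane Y) {v : Fin n → F} (hv : v ⬝ᵥ v = 1) :
    KMem Y v := by
  have hn := h.dim
  have h2 := h.two
  have hsmall : ∀ {m : ℕ}, 0 < m → m < 11 → ¬ p ∣ m := fun h0 hm hdvd =>
    absurd (Nat.le_of_dvd h0 hdvd) (by omega)
  have h3 : (3 : F) ≠ 0 := numeral_ne hF (hsmall (by norm_num) (by norm_num))
  have h5 : (5 : F) ≠ 0 := numeral_ne hF (hsmall (by norm_num) (by norm_num))
  have h7 : (7 : F) ≠ 0 := numeral_ne hF (hsmall (by norm_num) (by norm_num))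
  obtain ⟨a, b, hab, hP⟩ := hP
  -- either order of `3/5`, `4/5`
  have main : ∀ α β : F, α * α + β * β = 1 → α ≠ 0 → β ≠ 0 → Good (4 * (α * α)) → KMem Y v := by
    intro α β hu hα hβ hg
    set y : Fin n → F := α • e a + β • e b with hy
    have hya : y a = α := by simp [hy, e_same, e_ne hab]
    have hyb : y b = β := by simp [hy, e_same, e_ne (Ne.symm hab)]
    have hy0 : ∀ i, i ≠ a → i ≠ b → y i = 0 := fun i h1 h4 => by simp [hy, e_ne h1, e_ne h4]
    have hyY : KMem Y y := hP α β hu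
    obtain ⟨d, hd⟩ := exists_fresh ({a, b} : Finset (Fin n))
      (lt_of_le_of_lt Finset.card_le_two (by omega))
    obtain ⟨e₁, he₁⟩ := exists_fresh ({a, b, d} : Finset (Fin n))
      (lt_of_le_of_lt Finset.card_le_three (by omega))
    obtain ⟨e₂, he₂⟩ := exists_fresh ({a, b, d, e₁} : Finset (Fin n))
      (lt_of_le_of_lt Finset.card_le_four (by omega))
    simp only [Finset.mem_insert, Finset.mem_singleton, not_or] at hd he₁ he₂
    have hyd : y d = 0 := hy0 d hd.1 hd.2
    have hy' := h.inY_swap hyY hyd (Ne.symm hd.1) (Ne.symm he₂.2.2.2) he₁.1 he₁.2.2 he₂.1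
      he₂.2.2.1 (by rw [hy0 e₁ he₁.1 he₁.2.1, hy0 e₂ he₂.1 he₂.2.1])
    have hρ : 1 - y a * y a ≠ 0 := by
      rw [hya]; exact fun h0 => mul_ne_zero hβ hβ (by linear_combination hu + h0)
    have hT := h.transit_B hF hp2 hyY (Ne.symm hd.1) hyd hy' (hya ▸ hα) hρ
      (Or.inl (by rw [hya]; exact hg))
    refine h.all_units_of_coordTrans h3 (a₀ := a) (b₀ := d) (c₀ := b) (Ne.symm hd.1) hab hd.2
      (kcoordTrans_of_frame hT (Ne.symm hd.1) hab hd.2 hβ rfl rfl ?_) v hv
    show y - y a • e a = β • e b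
    rw [hya, hy, add_sub_cancel_left]
  have hu : (3 / 5 : F) * (3 / 5) + 4 / 5 * (4 / 5) = 1 := by field_simp; ring
  have hα : (3 / 5 : F) ≠ 0 := div_ne_zero h3 h5
  have hβ : (4 / 5 : F) ≠ 0 := div_ne_zero h.four_ne h5
  by_cases hg : Good (4 * ((3 / 5 : F) * (3 / 5)))
  · exact main _ _ hu hα hβ hg
  refine main _ _ (by linear_combination hu) hβ hα ?_
  set s := 4 * ((3 / 5 : F) * (3 / 5)) with hs
  set t := 4 * ((4 / 5 : F) * (4 / 5)) with ht
  have hst : s + t = 4 := by rw [hs, ht]; linear_combination 4 * hu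
  have ht0 : t ≠ 0 := mul_ne_zero h.four_ne (mul_ne_zero hβ hβ)
  have hne : s ≠ 2 := fun h0 => h7 (by
    have : (25 : F) * s = 36 := by rw [hs]; field_simp; ring
    rw [h0] at this
    exact (mul_eq_zero.mp (show (2 : F) * 7 = 0 by linear_combination this)).resolve_left h2)
  by_contra htB
  unfold Good at hg htB
  push Not at hg htB
  by_cases e1 : s = 1
  · exact one_ne_zero (α := F) (by
      linear_combination htB.2 ht0 (fun h0 => h2 (by linear_combination h0 + e1 - hst))
        (fun h0 => one_ne_zero (α := F) (by linear_combination h0 + e1 - hst)) - t * (hst - e1))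
  have hroot := hg.2 (mul_ne_zero h.four_ne (mul_ne_zero hα hα)) e1 hne
  have hr' := htB.2 ht0 (fun h0 => one_ne_zero (α := F) (by
      linear_combination hroot - s * (hst - h0))) (fun h0 => hne (by linear_combination hst - h0))
  exact hne (mul_left_cancel₀ h2 (by linear_combination hroot - hr' + (t - s + 1) * hst))

end Closed

end Cfsg.Agent.TableRelax.Mono
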