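import Cfsg.Agent.Lib.SpFrame96.Cliff
import Cfsg.Agent.Lib.Elusive19.Pauli4.Setup

/-!
The normaliser of the group of minus type, seen in five dimensions: the stabiliser of the frame.
-/

set_option autoImplicit false

namespace Cfsg.Agent.Lib.SpFrame96

open Matrix Cfsg.Agent.Lib.Elusive19.Pauli4
open Cfsg.Agent.TableRelax.Mono (e R P KRoot)

local notation "I4" => Fin 2 ⊕ Fin 2

variable {F : Type*} [Field F]

local notation "J4" => Matrix.J (Fin 2) F
local notation "Mat" => Matrix I4 I4 F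

/-- A vector is a signed axis. -/
def IsAx (a : Fin 5 → F) : Prop := ∃ j, a = e j ∨ a = -e j

theorem three_axes {u : Fin 5 → F} (h2 : (2 : F) ≠ 0) (hu : u ⬝ᵥ u = 1)
    (h : ∀ i, IsAx (R u (e i))) : KRoot u := by
  classical
  have hdot : ∀ i, u ⬝ᵥ e i = u i := fun i => Cfsg.Agent.TableRelax.Mono.dot_e i u
  have hoff : ∀ i j, j ≠ i → R u (e i) j = -(2 * u i * u j) := fun i j hj => by
    simp [Cfsg.Agent.TableRelax.Mono.R_unit hu, hdot, Cfsg.Agent.TableRelax.Mono.e_ne hj]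
  have hone : ∀ i j k, u i ≠ 0 → j ≠ i → k ≠ i → u j ≠ 0 → u k ≠ 0 → j = k := fun i j k hi hj hk hj0 hk0 => by
    obtain ⟨m, hm⟩ := h i
    by_contra hjk
    have key : ∀ l, l ≠ m → R u (e i) l = 0 := fun l hl => by
      rcases hm with e0 | e0 <;> rw [e0] <;> simp [Cfsg.Agent.TableRelax.Mono.e_ne hl]
    have nz : ∀ l, l ≠ i → u l ≠ 0 → l = m := fun l hl hl0 => by
      by_contra hlm
      have := key l hlm
      rw [hoff i l hl] at this
      exact mul_ne_zero (mul_ne_zero h2 hi) hl0 (neg_eq_zero.mp this)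
    exact hjk ((nz j hj hj0).trans (nz k hk hk0).symm)
  obtain ⟨a, ha⟩ : ∃ a, u a ≠ 0 := by
    by_contra hcon
    push Not at hcon
    simp [dotProduct, hcon] at hu
  by_cases hb : ∃ b, b ≠ a ∧ u b ≠ 0
  swap
  · push Not at hb; exact Or.inl ⟨a, hb⟩
  obtain ⟨b, hba, hb⟩ := hb
  have hz : ∀ i, i ≠ a → i ≠ b → u i = 0 := fun i hia hib => by
    by_contra hi; exact hib (hone a i b ha hia hba hi hb)
  have hhalf : ∀ i j, j ≠ i → u i ≠ 0 → u j ≠ 0 → 2 * (u i * u i) = 1 := fun i j hji hi hj => by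
    obtain ⟨m, hm⟩ := h i
    have hj' : R u (e i) j ≠ 0 := by
      rw [hoff i j hji]; exact neg_ne_zero.mpr (mul_ne_zero (mul_ne_zero h2 hi) hj)
    have hmj : m = j := by
      by_contra hne
      rcases hm with e0 | e0 <;> rw [e0] at hj' <;>
        simp [Cfsg.Agent.TableRelax.Mono.e_ne (Ne.symm hne)] at hj'
    subst hmj
    have : R u (e i) i = 0 := by
      rcases hm with e0 | e0 <;> rw [e0] <;> simp [Cfsg.Agent.TableRelax.Mono.e_ne hji.symm]
    simp only [Cfsg.Agent.TableRelax.Mono.R_unit hu, hdot, Pi.sub_apply, Pi.smul_apply, smul_eq_mul,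
      Cfsg.Agent.TableRelax.Mono.e_same] at this
    linear_combination -this
  exact Or.inr ⟨a, b, hba.symm, hhalf a b hba ha hb, hhalf b a hba.symm hb ha, hz⟩

theorem R_diag_axis {a b : Fin 5} (hab : a ≠ b) {u : Fin 5 → F} (hu : u ⬝ᵥ u = 1)
    (ha : 2 * (u a * u a) = 1) (hb : 2 * (u b * u b) = 1) (hz : ∀ j, j ≠ a → j ≠ b → u j = 0) :
    IsAx (R u (e a)) := by
  have hsq : (-(2 * u a * u b)) * (-(2 * u a * u b)) = 1 := by
    linear_combination (2 * (u b * u b)) * ha + hb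
  have hval : R u (e a) = (-(2 * u a * u b)) • e b := by
    ext j
    simp only [Cfsg.Agent.TableRelax.Mono.R_unit hu, Cfsg.Agent.TableRelax.Mono.dot_e, Pi.sub_apply,
      Pi.smul_apply, smul_eq_mul]
    by_cases h1 : j = a
    · subst h1
      rw [Cfsg.Agent.TableRelax.Mono.e_same, Cfsg.Agent.TableRelax.Mono.e_ne hab]
      linear_combination -ha
    by_cases h3 : j = b
    · subst h3
      rw [Cfsg.Agent.TableRelax.Mono.e_same, Cfsg.Agent.TableRelax.Mono.e_ne h1]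
      ring
    rw [Cfsg.Agent.TableRelax.Mono.e_ne h1, Cfsg.Agent.TableRelax.Mono.e_ne h3, hz j h1 h3]
    ring
  refine ⟨b, (mul_self_eq_one_iff.mp hsq).imp (fun e0 => ?_) fun e0 => ?_⟩
  · rw [hval, e0, one_smul]
  · rw [hval, e0, neg_one_smul]

theorem axes_of_root {u : Fin 5 → F} (hu : u ⬝ᵥ u = 1) (hr : KRoot u) (i : Fin 5) : IsAx (R u (e i)) := by
  by_cases h0 : u i = 0
  · exact ⟨i, Or.inl (Cfsg.Agent.TableRelax.Mono.R_of_ortho (by rw [Cfsg.Agent.TableRelax.Mono.dot_e, h0]))⟩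
  rcases hr with ⟨a, ha⟩ | ⟨a, b, hab, ha, hb, hz⟩
  · have hia : i = a := by by_contra hia; exact h0 (ha i hia)
    subst hia
    refine ⟨i, Or.inr ?_⟩
    have hsq : u i * u i = 1 := by
      rw [← hu, dotProduct, Finset.sum_eq_single i (fun j _ hj => by rw [ha j hj, mul_zero]) (by simp)]
    ext j
    simp only [Cfsg.Agent.TableRelax.Mono.R_unit hu, Cfsg.Agent.TableRelax.Mono.dot_e, Pi.sub_apply,
      Pi.smul_apply, Pi.neg_apply, smul_eq_mul]
    by_cases hj : j = i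
    · subst hj; rw [Cfsg.Agent.TableRelax.Mono.e_same]; linear_combination -2 * hsq
    · rw [Cfsg.Agent.TableRelax.Mono.e_ne hj, ha j hj]; ring
  · have : i = a ∨ i = b := by
      by_contra hcon; push Not at hcon; exact h0 (hz i hcon.1 hcon.2)
    rcases this with rfl | rfl
    · exact R_diag_axis hab hu ha hb hz
    · exact R_diag_axis hab.symm hu hb ha fun j h1 h3 => hz j h3 h1

variable {S : Subgroup (GL I4 F)} (Q : Quad S)

theorem smul_Wm_axis (h2 : (2 : F) ≠ 0) {b : Fin 5 → F} (hb : b ⬝ᵥ b = 1) {v : E} {c : F}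
    (h : V Q b = c • Q.Wm v) : IsAx b := by
  classical
  have hι : Fintype.card I4 = 4 := rfl
  have hrep := congrArg (fun X => (Q.basis hι h2).repr X) h
  have hcoef : ∀ i, b i = if v = wv i then c else 0 := fun i => by
    have h1 := DFunLike.congr_fun hrep (wv i)
    simp only [V, ← Quad.basis_apply Q hι h2, map_sum, map_smul, Module.Basis.repr_self,
      Finsupp.smul_single, smul_eq_mul, mul_one, Finsupp.coe_finset_sum, Finset.sum_apply,
      Finsupp.single_apply, wv_injective.eq_iff, Finset.sum_ite_eq', Finset.mem_univ, if_true] at h1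
    exact h1
  obtain ⟨j, hj⟩ : ∃ j, v = wv j := by
    by_contra hcon
    push Not at hcon
    have hzero : b = 0 := funext fun i => by rw [hcoef i, if_neg (hcon i)]; rfl
    rw [hzero, zero_dotProduct] at hb
    exact zero_ne_one hb
  have hbj : b = c • e j := funext fun i => by
    rw [hcoef i, hj, Pi.smul_apply, smul_eq_mul]
    by_cases hi : i = j
    · subst hi; simp [Cfsg.Agent.TableRelax.Mono.e_same]
    · rw [if_neg (fun h' => hi (wv_injective h').symm), Cfsg.Agent.TableRelax.Mono.e_ne hi, mul_zero]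
  rw [hbj, dotProduct_smul, smul_dotProduct, Cfsg.Agent.TableRelax.Mono.e_dot_self, smul_eq_mul,
    smul_eq_mul, mul_one] at hb
  exact ⟨j, (mul_self_eq_one_iff.mp hb).imp (fun e0 => by rw [hbj, e0, one_smul])
    fun e0 => by rw [hbj, e0, neg_one_smul]⟩

variable (hgen : ∀ x ∈ S, ∃ (v : E) (c : F), c ≠ 0 ∧ Units.val x = c • Q.Wm v)

include hgen

theorem axes_of_mem (h2 : (2 : F) ≠ 0) {g : GL I4 F} (hg : g ∈ Cfsg.Geo.subgroupNormalizer S)
    {b : Fin 5 → F} (hb : b ⬝ᵥ b = 1) (i : Fin 5)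
    (h : (g : Mat) * V Q (e i) * ((g⁻¹ : GL I4 F) : Mat) = V Q b) : IsAx b := by
  have hx : g * Q.W (wv i) * g⁻¹ ∈ S :=
    (Subgroup.mem_normalizer_iff.mp hg (Q.W (wv i))).mp (Q.W_mem _)
  obtain ⟨v, c, -, hv⟩ := hgen _ hx
  refine smul_Wm_axis Q h2 hb (v := v) (c := c) ?_
  rw [← h, ← hv, V_e, Units.val_mul, Units.val_mul]; rfl

variable [Fintype F]

/-- Axes to axes: in the normaliser. -/
theorem mem_of_axes {g : GL I4 F}
    (h : ∀ i, ∃ b, IsAx b ∧ (g : Mat) * V Q (e i) * ((g⁻¹ : GL I4 F) : Mat) = V Q b) :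
    g ∈ Cfsg.Geo.subgroupNormalizer S := by
  have hneg : ∃ n : GL I4 F, n ∈ S ∧ (n : Mat) = -1 := by
    refine ⟨Q.a1 * Q.b1 * (Q.a1 * Q.b1), S.mul_mem (S.mul_mem Q.a1_mem Q.b1_mem) (S.mul_mem Q.a1_mem Q.b1_mem), ?_⟩
    rw [Units.val_mul, Units.val_mul, mul_assoc, ← mul_assoc (Q.b1 : Mat), Q.anti1, neg_mul, mul_neg,
      mul_assoc (Q.a1 : Mat) Q.b1, Q.b1_sq, mul_one, Q.a1_sq]
  obtain ⟨n, hn, hnm⟩ := hneg
  have hx : ∀ i, g * Q.W (wv i) * g⁻¹ ∈ S := fun i => by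
    obtain ⟨b, ⟨j, hb⟩, he⟩ := h i
    have hval : ((g * Q.W (wv i) * g⁻¹ : GL I4 F) : Mat) = V Q b := by
      rw [← he, V_e, Units.val_mul, Units.val_mul]; rfl
    rcases hb with rfl | rfl
    · rw [show g * Q.W (wv i) * g⁻¹ = Q.W (wv j) from Units.ext (by rw [hval, V_e]; rfl)]
      exact Q.W_mem _
    · rw [show g * Q.W (wv i) * g⁻¹ = n * Q.W (wv j) from Units.ext (by
        rw [hval, V_neg, V_e, Units.val_mul, hnm, neg_one_mul]; rfl)]
      exact S.mul_mem hn (Q.W_mem _)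
  have hmap : ∀ x y : GL I4 F, g * x * g⁻¹ ∈ S → g * y * g⁻¹ ∈ S → g * (x * y) * g⁻¹ ∈ S := fun x y hx hy => by
    rw [show g * (x * y) * g⁻¹ = (g * x * g⁻¹) * (g * y * g⁻¹) by group]; exact S.mul_mem hx hy
  have ha : Q.W (wv 0) = Q.a1 := by simp [wv, Quad.W, ZMod.val_one]
  have hb : Q.W (wv 1) = Q.b1 := by simp [wv, Quad.W, ZMod.val_one]
  have hc : Q.W (wv 2) = Q.a1 * Q.b1 * Q.a2 := by simp [wv, Quad.W, ZMod.val_one]
  have hd : Q.W (wv 3) = Q.a1 * Q.b1 * Q.b2 := by simp [wv, Quad.W, ZMod.val_one]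
  have h1 := ha ▸ hx 0
  have h2' := hb ▸ hx 1
  have h12 : g * (Q.a1 * Q.b1)⁻¹ * g⁻¹ ∈ S := by
    rw [show g * (Q.a1 * Q.b1)⁻¹ * g⁻¹ = (g * (Q.a1 * Q.b1) * g⁻¹)⁻¹ by group]
    exact S.inv_mem (hmap _ _ h1 h2')
  refine Q.mem_normalizer_of_gens hgen h1 h2' ?_ ?_
  · rw [show Q.a2 = (Q.a1 * Q.b1)⁻¹ * (Q.a1 * Q.b1 * Q.a2) by group]
    exact hmap _ _ h12 (hc ▸ hx 2)
  · rw [show Q.b2 = (Q.a1 * Q.b1)⁻¹ * (Q.a1 * Q.b1 * Q.b2) by group]
    exact hmap _ _ h12 (hd ▸ hx 3)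

end Cfsg.Agent.Lib.SpFrame96
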