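import Cfsg.Agent.Lib.SpFrame96.Top
import Cfsg.Agent.Lib.SpFrame96.Mem
import Cfsg.Agent.Lib.SpFrame96.Roots

/-!
**The normaliser of a symplectic-type group of minus type is maximal in `Sp₄(p)`.**
-/

set_option autoImplicit false

namespace Cfsg.Agent.Lib.SpFrame96

open Matrix Cfsg.Agent.Lib.Elusive19.Pauli4
open Cfsg.Agent.TableRelax.Mono (e R P KRoot KDiag Closed)

local notation "I4" => Fin 2 ⊕ Fin 2

variable {F : Type*} [Field F]

local notation "J4" => Matrix.J (Fin 2) F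
local notation "Mat" => Matrix I4 I4 F

variable {S : Subgroup (GL I4 F)} (Q : Quad S)

/-- The units whose involution lies in `M`. -/
def YSet (h2 : (2 : F) ≠ 0) (M : Subgroup (GL I4 F)) : Set (Fin 5 → F) :=
  setOf fun u => ∃ hu : u ⬝ᵥ u = 1, Vu Q h2 u hu ∈ M

/-- The reflection in a difference of two axes exchanges them. -/
theorem R_sub_axes (h2 : (2 : F) ≠ 0) {a b : Fin 5} (hab : a ≠ b) (y : Fin 5 → F) :
    R (e a - e b) y = P (Equiv.swap a b) y := by
  have hn : (e a - e b : Fin 5 → F) ⬝ᵥ (e a - e b) = 2 := by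
    simp [sub_dotProduct, dotProduct_sub, Cfsg.Agent.TableRelax.Mono.e_dot_self,
      Cfsg.Agent.TableRelax.Mono.e_dot_ne hab, Cfsg.Agent.TableRelax.Mono.e_dot_ne hab.symm]
    ring
  funext i
  rw [Cfsg.Agent.TableRelax.Mono.R_apply, hn, sub_dotProduct, Cfsg.Agent.TableRelax.Mono.e_dot,
    Cfsg.Agent.TableRelax.Mono.e_dot, Cfsg.Agent.TableRelax.Mono.P_apply, Equiv.symm_swap,
    mul_div_cancel_left₀ _ h2]
  simp only [Pi.sub_apply, Pi.smul_apply, smul_eq_mul]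
  by_cases h1 : i = a
  · subst h1; rw [Equiv.swap_apply_left, Cfsg.Agent.TableRelax.Mono.e_same,
      Cfsg.Agent.TableRelax.Mono.e_ne hab]; ring
  by_cases h3 : i = b
  · subst h3; rw [Equiv.swap_apply_right, Cfsg.Agent.TableRelax.Mono.e_same,
      Cfsg.Agent.TableRelax.Mono.e_ne h1]; ring
  rw [Equiv.swap_apply_of_ne_of_ne h1 h3, Cfsg.Agent.TableRelax.Mono.e_ne h1,
    Cfsg.Agent.TableRelax.Mono.e_ne h3]
  ring

theorem P_mul (σ τ : Equiv.Perm (Fin 5)) (y : Fin 5 → F) : P (σ * τ) y = P σ (P τ y) := by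
  funext i
  simp [Cfsg.Agent.TableRelax.Mono.P_apply, Equiv.Perm.mul_def]

theorem P_axis (σ : Equiv.Perm (Fin 5)) (i : Fin 5) : IsAx (P σ (e i : Fin 5 → F)) :=
  ⟨σ i, Or.inl (Cfsg.Agent.TableRelax.Mono.P_e σ i)⟩

variable (hS : S ≤ Cfsg.spGL 2 F) (h2 : (2 : F) ≠ 0) [Fintype F]
variable (hgen : ∀ x ∈ S, ∃ (v : E) (c : F), c ≠ 0 ∧ Units.val x = c • Q.Wm v)

theorem conj_Vu (u : Fin 5 → F) (hu : u ⬝ᵥ u = 1) (a : Fin 5 → F) :
    ((Vu Q h2 u hu : GL I4 F) : Mat) * V Q a * (((Vu Q h2 u hu)⁻¹ : GL I4 F) : Mat) = V Q (-R u a) := by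
  show V Q u * V Q a * V Q u = _
  rw [V_conj Q h2 (by rw [hu]; exact one_ne_zero), hu, one_smul, V_neg]

theorem isAx_neg {a : Fin 5 → F} (h : IsAx a) : IsAx (-a) := by
  obtain ⟨j, rfl | rfl⟩ := h
  · exact ⟨j, Or.inr rfl⟩
  · exact ⟨j, Or.inl (neg_neg _)⟩

include h2 hgen

theorem root_mem {u : Fin 5 → F} (hu : u ⬝ᵥ u = 1) (hr : KRoot u) :
    Vu Q h2 u hu ∈ Cfsg.Geo.subgroupNormalizer S :=
  mem_of_axes Q hgen fun i => ⟨_, isAx_neg (axes_of_root hu hr i), conj_Vu Q h2 u hu _⟩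

theorem root_of_mem {u : Fin 5 → F} (hu : u ⬝ᵥ u = 1)
    (hm : Vu Q h2 u hu ∈ Cfsg.Geo.subgroupNormalizer S) : KRoot u := by
  refine three_axes h2 hu fun i => ?_
  have h := axes_of_mem Q hgen h2 hm (b := -R u (e i)) ?_ i (conj_Vu Q h2 u hu _)
  · simpa using isAx_neg h
  · rw [neg_dotProduct, dotProduct_neg, neg_neg, Cfsg.Agent.TableRelax.Mono.R_iso,
      Cfsg.Agent.TableRelax.Mono.e_dot_self]

include hS

/-- Products of two exchanges are realised in the normaliser. -/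
theorem exists_pair_elt {a b c d : Fin 5} (hab : a ≠ b) (hcd : c ≠ d) :
    ∃ g ∈ Cfsg.Geo.subgroupNormalizer S ⊓ Cfsg.spGL 2 F, ∀ y,
      (g : Mat) * V Q y * ((g⁻¹ : GL I4 F) : Mat) = V Q (P (Equiv.swap a b * Equiv.swap c d) y) := by
  set A := V Q (e a - e b) with hA
  set B := V Q (e c - e d) with hB
  have hnorm : ∀ {a b : Fin 5}, a ≠ b → (e a - e b : Fin 5 → F) ⬝ᵥ (e a - e b) = 2 := fun {a b} h => by
    simp [sub_dotProduct, dotProduct_sub, Cfsg.Agent.TableRelax.Mono.e_dot_self,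
      Cfsg.Agent.TableRelax.Mono.e_dot_ne h, Cfsg.Agent.TableRelax.Mono.e_dot_ne h.symm]
    ring
  have hAA : A * A = (2 : F) • 1 := by rw [hA, V_sq Q h2, hnorm hab]
  have hBB : B * B = (2 : F) • 1 := by rw [hB, V_sq Q h2, hnorm hcd]
  have h1 : ((2 : F)⁻¹ • (A * B)) * ((2 : F)⁻¹ • (B * A)) = 1 := by
    rw [smul_mul_assoc, mul_smul_comm, mul_assoc, ← mul_assoc B, hBB, smul_mul_assoc, one_mul,
      mul_smul_comm, hAA]
    simp [smul_smul, mul_assoc, h2]
  have h1' : ((2 : F)⁻¹ • (B * A)) * ((2 : F)⁻¹ • (A * B)) = 1 := by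
    rw [smul_mul_assoc, mul_smul_comm, mul_assoc, ← mul_assoc A, hAA, smul_mul_assoc, one_mul,
      mul_smul_comm, hBB]
    simp [smul_smul, mul_assoc, h2]
  let g : GL I4 F := ⟨(2 : F)⁻¹ • (A * B), (2 : F)⁻¹ • (B * A), h1, h1'⟩
  have hconj : ∀ y, (g : Mat) * V Q y * ((g⁻¹ : GL I4 F) : Mat) =
      V Q (P (Equiv.swap a b * Equiv.swap c d) y) := fun y => by
    show (2 : F)⁻¹ • (A * B) * V Q y * ((2 : F)⁻¹ • (B * A)) = _
    have e1 : B * V Q y * B = -((2 : F) • V Q (P (Equiv.swap c d) y)) := by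
      rw [hB, V_conj Q h2 (by rw [hnorm hcd]; exact h2), hnorm hcd, R_sub_axes h2 hcd]
    have e2 : ∀ z, A * V Q z * A = -((2 : F) • V Q (P (Equiv.swap a b) z)) := fun z => by
      rw [hA, V_conj Q h2 (by rw [hnorm hab]; exact h2), hnorm hab, R_sub_axes h2 hab]
    calc _ = ((2 : F)⁻¹ * (2 : F)⁻¹) • (A * (B * V Q y * B) * A) := by
          simp only [smul_mul_assoc, mul_smul_comm, smul_smul, mul_assoc]
      _ = _ := by
          rw [e1, mul_neg, neg_mul, mul_smul_comm, smul_mul_assoc, e2, P_mul]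
          simp only [smul_neg, neg_neg, smul_smul]
          rw [show (2 : F)⁻¹ * 2⁻¹ * (2 * 2) = 1 by field_simp, one_smul]
  refine ⟨g, ⟨mem_of_axes Q hgen fun i => ⟨_, P_axis _ i, hconj _⟩, ?_⟩, hconj⟩
  refine mem_spGL_of_mat ?_
  show ((2 : F)⁻¹ • (A * B))ᵀ * J4 * ((2 : F)⁻¹ • (A * B)) = J4
  rw [Matrix.transpose_smul, Matrix.transpose_mul, smul_mul_assoc, mul_assoc Bᵀ, hA, V_adjoint Q hS,
    ← mul_assoc Bᵀ, hB, V_adjoint Q hS, ← hA, ← hB]
  have := congrArg (fun X => J4 * X) h1'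
  simp only [smul_mul_assoc, mul_smul_comm, mul_assoc, mul_one] at this ⊢
  exact this

section overgroup

variable {M : Subgroup (GL I4 F)} (hNM : Cfsg.Geo.subgroupNormalizer S ⊓ Cfsg.spGL 2 F ≤ M)

include hNM

theorem mem_M_of_mem {x : GL I4 F} (hx : x ∈ S) : x ∈ M :=
  hNM ⟨Subgroup.le_normalizer hx, hS hx⟩

theorem neg_mem_Y {v : Fin 5 → F} (hv : -v ∈ YSet Q h2 M) : v ∈ YSet Q h2 M := by
  obtain ⟨hv1, hm⟩ := hv
  have hu : v ⬝ᵥ v = 1 := by simpa using hv1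
  refine ⟨hu, ?_⟩
  set a := Q.W (1, 0, 0, 0)
  set b := Q.W (0, 1, 0, 0)
  have hn : a * b * (a * b) ∈ M := mem_M_of_mem Q hS h2 hgen hNM
    (S.mul_mem (S.mul_mem (Q.W_mem _) (Q.W_mem _)) (S.mul_mem (Q.W_mem _) (Q.W_mem _)))
  have hnm : ((a * b * (a * b) : GL I4 F) : Mat) = -1 := by
    have h1 := Q.W_anti (show bf (0, 1, 0, 0) (1, 0, 0, 0) = 1 by decide)
    have h3 := Q.W_sq (1, 0, 0, 0)
    have h4 := Q.W_sq (0, 1, 0, 0)
    rw [show qf (1, 0, 0, 0) = 0 by decide, sgn_zero, one_smul] at h3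
    rw [show qf (0, 1, 0, 0) = 0 by decide, sgn_zero, one_smul] at h4
    rw [Units.val_mul, Units.val_mul, mul_assoc, ← mul_assoc (b : Mat), h1, neg_mul, mul_neg,
      mul_assoc (a : Mat) b, h4, mul_one, h3]
  rw [show Vu Q h2 v hu = a * b * (a * b) * Vu Q h2 (-v) hv1 from Units.ext (by
    rw [Units.val_mul, hnm, neg_one_mul]; show V Q v = -V Q (-v); rw [V_neg, neg_neg])]
  exact M.mul_mem hn hm

theorem closed_Y : Closed (YSet Q h2 M) := by
  refine ⟨⟨fun y hy => hy.1, fun y hy w hw => ?_⟩, h2, le_rfl, fun i => ⟨Cfsg.Agent.TableRelax.Mono.e_dot_self i, ?_⟩, ?_⟩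
  · refine neg_mem_Y Q hS h2 hgen hNM ⟨?_, ?_⟩
    · rw [neg_dotProduct, dotProduct_neg, neg_neg, Cfsg.Agent.TableRelax.Mono.R_iso, hy.1]
    · obtain ⟨hw1, hw⟩ := hw
      obtain ⟨hy1, hy⟩ := hy
      have := M.mul_mem (M.mul_mem hw hy) (M.inv_mem hw)
      convert this using 1
      exact Units.ext (conj_Vu Q h2 w hw1 y).symm
  · rw [Vu_e]; exact mem_M_of_mem Q hS h2 hgen hNM (Q.W_mem _)
  · have key : ∀ σ : Equiv.Perm (Fin 5),
        (Equiv.Perm.sign σ = 1 → ∃ m ∈ M, ∀ y, (m : Mat) * V Q y * ((m⁻¹ : GL I4 F) : Mat) = V Q (P σ y)) ∧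
        (Equiv.Perm.sign σ = -1 → ∀ a b, a ≠ b → ∃ m ∈ M, ∀ y,
          (m : Mat) * V Q y * ((m⁻¹ : GL I4 F) : Mat) = V Q (P (σ * Equiv.swap a b) y)) := by
      intro σ
      induction σ using Equiv.Perm.swap_induction_on' with
      | one =>
        refine ⟨fun _ => ⟨1, M.one_mem, fun y => ?_⟩, fun h => absurd h (by simp)⟩
        rw [show P (1 : Equiv.Perm (Fin 5)) y = y from funext fun i => by
          simp [Cfsg.Agent.TableRelax.Mono.P_apply, Equiv.Perm.one_symm]]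
        simp
      | mul_swap σ x z hxz ih =>
        have hsign : Equiv.Perm.sign (σ * Equiv.swap x z) = -Equiv.Perm.sign σ := by
          rw [map_mul, Equiv.Perm.sign_swap hxz, mul_neg_one]
        refine ⟨fun h => ih.2 (by rw [hsign] at h; exact neg_eq_iff_eq_neg.mp h) x z hxz, fun h a b hab => ?_⟩
        rw [hsign, neg_inj] at h
        obtain ⟨m, hm, hmy⟩ := ih.1 h
        obtain ⟨g, hg, hgy⟩ := exists_pair_elt Q hS h2 hgen hxz hab
        refine ⟨m * g, M.mul_mem hm (hNM hg), fun y => ?_⟩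
        rw [mul_assoc σ, P_mul σ, ← hmy, ← hgy, _root_.mul_inv_rev, Units.val_mul, Units.val_mul]
        simp only [mul_assoc]
    intro σ hσ y hy
    obtain ⟨m, hm, hmy⟩ := (key σ).1 hσ
    obtain ⟨hy1, hy⟩ := hy
    refine ⟨by rw [Cfsg.Agent.TableRelax.Mono.P_iso, hy1], ?_⟩
    have := M.mul_mem (M.mul_mem hm hy) (M.inv_mem hm)
    convert this using 1
    exact Units.ext (hmy y).symm

/-- An element outside the normaliser gives a vector that is no root. -/
theorem exists_rough {g : GL I4 F} (hgM : g ∈ M) (hgS : g ∈ Cfsg.spGL 2 F)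
    (hgN : g ∉ Cfsg.Geo.subgroupNormalizer S) : ∃ y ∈ YSet Q h2 M, ¬ KRoot y := by
  classical
  obtain ⟨f, hf, hdot⟩ := exists_image Q hS h2 hgS
  have himg : ∀ u, u ∈ YSet Q h2 M → f u ∈ YSet Q h2 M := fun u ⟨hu, hm⟩ => by
    refine ⟨by rw [hdot, hu], ?_⟩
    have := M.mul_mem (M.mul_mem hgM hm) (M.inv_mem hgM)
    convert this using 1
    exact Units.ext (hf u).symm
  have hY := closed_Y Q hS h2 hgen hNM
  by_contra hcon
  push Not at hcon
  have hroot : ∀ i, KRoot (f (e i)) := fun i => hcon _ (himg _ (hY.inY_e i))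
  have hax : ∀ v : Fin 5 → F, v ⬝ᵥ v = 1 → (∃ a, ∀ j, j ≠ a → v j = 0) → IsAx v := fun v hv ⟨a, ha⟩ => by
    have hsq : v a * v a = 1 := by
      rw [← hv, dotProduct, Finset.sum_eq_single a (fun j _ hj => by rw [ha j hj, mul_zero]) (by simp)]
    have hva : v = v a • e a := funext fun j => by
      by_cases hj : j = a
      · subst hj; simp [Cfsg.Agent.TableRelax.Mono.e_same]
      · simp [Cfsg.Agent.TableRelax.Mono.e_ne hj, ha j hj]
    exact ⟨a, (mul_self_eq_one_iff.mp hsq).imp (fun e0 => by rw [hva, e0, one_smul])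
      fun e0 => by rw [hva, e0, neg_one_smul]⟩
  -- some image is a diagonal
  obtain ⟨i, a, b, hi⟩ : ∃ i a b, KDiag (f (e i)) a b := by
    by_contra hno
    push Not at hno
    refine hgN (mem_of_axes Q hgen fun i => ⟨f (e i), ?_, hf _⟩)
    rcases hroot i with h | ⟨a, b, h⟩
    · exact hax _ (by rw [hdot, Cfsg.Agent.TableRelax.Mono.e_dot_self]) h
    · exact absurd h (hno i a b)
  -- some image is an axis
  obtain ⟨j, c, hj⟩ : ∃ j c, ∀ k, k ≠ c → f (e j) k = 0 := by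
    by_contra hno
    refine Cfsg.Agent.TableRelax.Mono.no_five_diags h2 (v := fun i => f (e i))
      (fun i j hij => by rw [hdot, Cfsg.Agent.TableRelax.Mono.e_dot_ne hij]) fun j => ?_
    rcases hroot j with h | h
    · exact absurd ⟨j, h⟩ hno
    · exact h
  set α := f (e i) a with hα
  have hjv := hax _ (by rw [hdot, Cfsg.Agent.TableRelax.Mono.e_dot_self]) ⟨c, hj⟩
  have hjc : f (e j) c ≠ 0 := fun h0 => by
    have h1 : f (e j) ⬝ᵥ f (e j) = 1 := by rw [hdot, Cfsg.Agent.TableRelax.Mono.e_dot_self]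
    rw [dotProduct, Finset.sum_eq_single c (fun k _ hk => by rw [hj k hk, mul_zero]) (by simp), h0,
      mul_zero] at h1
    exact zero_ne_one h1
  have hij : i ≠ j := fun h => by
    subst h
    exact hi.1 ((by_contra fun hac => hi.ne_zero.1 (hj a hac) : a = c).trans
      (by_contra fun hbc => hi.ne_zero.2 (hj b hbc) : b = c).symm)
  have hci : f (e i) c = 0 := by
    have := hdot (e i) (e j)
    rw [Cfsg.Agent.TableRelax.Mono.e_dot_ne hij, dotProduct,
      Finset.sum_eq_single c (fun k _ hk => by rw [hj k hk, mul_zero]) (by simp)] at this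
    exact (mul_eq_zero.mp this).resolve_right hjc
  have hac : a ≠ c := fun h => hi.ne_zero.1 (h ▸ hci)
  have hbc : b ≠ c := fun h => hi.ne_zero.2 (h ▸ hci)
  -- the diagonal in the axes `i`, `j`
  set u : Fin 5 → F := α • e i + α • e j with hu
  have hui : u i = α := by simp [hu, Cfsg.Agent.TableRelax.Mono.e_same, Cfsg.Agent.TableRelax.Mono.e_ne hij]
  have huj : u j = α := by simp [hu, Cfsg.Agent.TableRelax.Mono.e_same, Cfsg.Agent.TableRelax.Mono.e_ne hij.symm]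
  have hu0 : ∀ k, k ≠ i → k ≠ j → u k = 0 := fun k h1 h3 => by
    simp [hu, Cfsg.Agent.TableRelax.Mono.e_ne h1, Cfsg.Agent.TableRelax.Mono.e_ne h3]
  have hdiag : KDiag u i j := ⟨hij, by rw [hui]; exact hi.2.1, by rw [huj]; exact hi.2.1, hu0⟩
  have hu1 : u ⬝ᵥ u = 1 := by rw [hdiag.dot, hui, huj, hα]; linear_combination hi.2.1
  have huY : u ∈ YSet Q h2 M :=
    ⟨hu1, hNM ⟨root_mem Q h2 hgen hu1 (Or.inr ⟨i, j, hdiag⟩), Vu_mem Q hS h2 hu1⟩⟩
  have himu := hcon _ (himg u huY)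
  have hfu : f u = α • f (e i) + α • f (e j) := by rw [hu, map_add, map_smul, map_smul]
  have hα0 : α ≠ 0 := hi.ne_zero.1
  have hz : ∀ k, k ≠ c → f u k = α * f (e i) k := fun k hk => by simp [hfu, hj k hk]
  have na : f u a ≠ 0 := by rw [hz a hac]; exact mul_ne_zero hα0 hi.ne_zero.1
  have nb : f u b ≠ 0 := by rw [hz b hbc]; exact mul_ne_zero hα0 hi.ne_zero.2
  have nc : f u c ≠ 0 := by simp [hfu, hci, hα0, hjc]
  rcases himu with ⟨m, hm⟩ | ⟨m, m', -, -, -, hm⟩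
  · exact hi.1 ((by_contra fun h => na (hm a h) : a = m).trans (by_contra fun h => nb (hm b h) : b = m).symm)
  · have hcases : ∀ k, f u k ≠ 0 → k = m ∨ k = m' := fun k hk => by
      by_contra h; push Not at h; exact hk (hm k h.1 h.2)
    rcases hcases a na with e1 | e1 <;> rcases hcases b nb with e3 | e3 <;>
      rcases hcases c nc with e5 | e5
    all_goals first
      | exact hi.1 (e1.trans e3.symm)
      | exact hac (e1.trans e5.symm)
      | exact hbc (e3.trans e5.symm)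

end overgroup

/-- **Maximality.** -/
theorem maximal_of_quad {p : ℕ} [Fact p.Prime] (hF : Fintype.card F = p) (hp2 : p ≠ 2) :
    Cfsg.Geo.IsMaximalIn (Cfsg.spGL 2 F) (Cfsg.Geo.subgroupNormalizer S ⊓ Cfsg.spGL 2 F) := by
  classical
  have hp3 : 3 ≤ Fintype.card F := by
    rw [hF]; exact Nat.lt_of_le_of_ne (Fact.out : p.Prime).two_le (Ne.symm hp2)
  -- a unit vector that is no root
  obtain ⟨u, hu, hur⟩ : ∃ u : Fin 5 → F, u ⬝ᵥ u = 1 ∧ ¬ KRoot u := by
    obtain ⟨s, t, hst⟩ := Cfsg.Agent.TableRelax.Mono.exists_norm h2 (neg_ne_zero.mpr one_ne_zero) (-1 : F)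
    refine ⟨![1, 1, s, t, 0], ?_, ?_⟩
    · rw [dotProduct, Fin.sum_univ_five]; simp; linear_combination hst
    · rintro (⟨a, ha⟩ | ⟨a, b, -, ha, hb, hz⟩)
      · have h0 : a = 0 := by by_contra h; exact one_ne_zero (α := F) (by simpa using ha 0 (Ne.symm h))
        have h1 : a = 1 := by by_contra h; exact one_ne_zero (α := F) (by simpa using ha 1 (Ne.symm h))
        exact absurd (h0.symm.trans h1) (by decide)
      · have h0 : a = 0 ∨ b = 0 := by
          by_contra h; push Not at h; exact one_ne_zero (α := F) (by simpa using hz 0 h.1.symm h.2.symm)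
        rcases h0 with rfl | rfl
        · exact one_ne_zero (α := F) (by simp at ha; linear_combination ha)
        · exact one_ne_zero (α := F) (by simp at hb; linear_combination hb)
  refine ⟨lt_of_le_of_ne inf_le_right fun heq => hur (root_of_mem Q h2 hgen hu
    ((heq.symm.le (Vu_mem Q hS h2 hu)).1)), fun M hNM hMS => ?_⟩
  by_cases hle : M ≤ Cfsg.Geo.subgroupNormalizer S
  · exact Or.inl (le_antisymm (le_inf hle hMS) hNM)
  obtain ⟨g, hgM, hgN⟩ := SetLike.not_le_iff_exists.mp hle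
  obtain ⟨y, hy, hyr⟩ := exists_rough Q hS h2 hgen hNM hgM (hMS hgM) hgN
  have hall := (closed_Y Q hS h2 hgen hNM).all_units_five hF hp2 hy hyr
  exact Or.inr (le_antisymm hMS (spGL_le_of_all_units Q hS h2 hp3 fun u hu => (hall u hu).2))

end Cfsg.Agent.Lib.SpFrame96

namespace Cfsg.Agent.Lib.SpFrame96

open Cfsg.Agent.Lib.Elusive19.Pauli4

/-- **The normaliser of a symplectic-type 2-group of minus type is maximal in `Sp₄(p)`.** -/
theorem c6_maximal {F : Type*} [Field F] [Fintype F] (hodd : Odd (Fintype.card F)) {p : ℕ}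
    (S : Subgroup (Matrix.GeneralLinearGroup (Fin 2 ⊕ Fin 2) F)) (hp : p.Prime) (hF : Fintype.card F = p)
    (hSs : Cfsg.Geo.IsSymplecticTypeGroup 2 S)
    (hSi : Cfsg.Geo.ActsAbsolutelyIrreducibly (Cfsg.Geo.matrixSet S)) (hS : S ≤ Cfsg.spGL 2 F)
    (hcard : Nat.card S = 32) (hc : Nat.card (Subgroup.center S) = 2) (hm : Cfsg.Geo.IsOfMinusType 2 S) :
    Cfsg.Geo.IsMaximalIn (Cfsg.spGL 2 F) (Cfsg.Geo.subgroupNormalizer S ⊓ Cfsg.spGL 2 F) := by
  haveI := Fact.mk hp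
  have hp2 : p ≠ 2 := fun h => by rw [hF, h] at hodd; exact (Nat.not_odd_iff_even.mpr even_two) hodd
  have h2 : (2 : F) ≠ 0 := by
    have := Cfsg.Agent.TableRelax.Mono.natCast_ne (F := F) hF (m := 2)
      (fun hd => hp2 ((Nat.prime_dvd_prime_iff_eq hp Nat.prime_two).mp hd))
    exact_mod_cast this
  obtain ⟨Q⟩ := exists_quad_of_minus hSs hSi hc (by omega) hm h2
  exact maximal_of_quad Q hS h2 (gen_word hSs hSi (Or.inl hc) Q rfl h2) hF hp2

end Cfsg.Agent.Lib.SpFrame96
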