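import Cfsg.Agent.Lib.SpFrame96.RoughGood

/-!
Five coordinates, characteristic at least eleven: a vector that is no root gives a plane.
-/

set_option autoImplicit false
set_option linter.unusedSectionVars false

namespace Cfsg.Agent.TableRelax.Mono

open Matrix

variable {F : Type*} [Field F] [Fintype F] {p : ℕ} [Fact p.Prime]

/-- An axis or a diagonal of a coordinate plane. -/
def KRoot (y : Fin 5 → F) : Prop :=
  (∃ a, ∀ i, i ≠ a → y i = 0) ∨
    ∃ a b, a ≠ b ∧ 2 * (y a * y a) = 1 ∧ 2 * (y b * y b) = 1 ∧ ∀ i, i ≠ a → i ≠ b → y i = 0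

theorem exists_sq_of_perm (y : Fin 5 → F) {a b c d e : Fin 5} (hba : b ≠ a) (hca : c ≠ a)
    (hda : d ≠ a) (hea : e ≠ a) (hbc : b ≠ c) (hbd : b ≠ d) (hbe : b ≠ e) (hcd : c ≠ d) (hce : c ≠ e)
    (hde : d ≠ e) (va vb vc vd ve : F) : ∃ w : Fin 5 → F,
      w a = va ∧ w b = vb ∧ w c = vc ∧ w d = vd ∧ w e = ve ∧
      y ⬝ᵥ w = y a * va + (y b * vb + (y c * vc + (y d * vd + y e * ve))) := by
  refine ⟨fun i => if i = a then va else if i = b then vb else if i = c then vc else if i = d then vd
    else ve, by simp, by simp [hba], by simp [hca, hbc.symm], by simp [hda, hbd.symm, hcd.symm],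
    by simp [hea, hbe.symm, hce.symm, hde.symm], ?_⟩
  show ∑ i, y i * _ = _
  rw [sum_five hba hca hda hea hbc hbd hbe hcd hce hde]
  simp [hba, hca, hda, hea, hbc.symm, hbd.symm, hbe.symm, hcd.symm, hce.symm, hde.symm]

namespace Closed

variable {Y : Set (Fin 5 → F)} (h : Closed Y) (hF : Fintype.card F = p) (hp : 11 ≤ p)

include h hF hp

/-- Squares of a vector moved by two exchanges. -/
theorem inY_exchange {y w : Fin 5 → F} (hy : y ∈ Y) {a a' b b' : Fin 5} (c : Fin 5) (haa : a ≠ a')
    (hbb : b ≠ b') (hab : a ≠ b) (hab' : a ≠ b') (ha'b : a' ≠ b) (ha'b' : a' ≠ b')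
    (hca : c ≠ a) (hca' : c ≠ a') (hcb : c ≠ b) (hcb' : c ≠ b')
    (e1 : w a' * w a' = y a * y a) (e2 : w a * w a = y a' * y a') (e3 : w b' * w b' = y b * y b)
    (e4 : w b * w b = y b' * y b') (e5 : w c * w c = y c * y c) : w ∈ Y := by
  refine h.inY_perm_sq (σ := Equiv.swap a a' * Equiv.swap b b') ?_ hy fun i => ?_
  · rw [map_mul, Equiv.Perm.sign_swap haa, Equiv.Perm.sign_swap hbb]; rfl
  simp only [Equiv.Perm.mul_apply]
  rcases cover_five c a a' b b' hca.symm hca'.symm hcb.symm hcb'.symm haa hab hab' ha'b ha'b' hbb i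
    with rfl | rfl | rfl | rfl | rfl
  · rw [Equiv.swap_apply_of_ne_of_ne hcb hcb', Equiv.swap_apply_of_ne_of_ne hca hca', e5]
  · rw [Equiv.swap_apply_of_ne_of_ne hab hab', Equiv.swap_apply_left, e1]
  · rw [Equiv.swap_apply_of_ne_of_ne ha'b ha'b', Equiv.swap_apply_right, e2]
  · rw [Equiv.swap_apply_left, Equiv.swap_apply_of_ne_of_ne hab'.symm ha'b'.symm, e3]
  · rw [Equiv.swap_apply_right, Equiv.swap_apply_of_ne_of_ne hab.symm ha'b.symm, e4]

theorem good_quarter : Good ((1 : F) / 4) := by
  have h4 := h.four_ne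
  refine Or.inr ⟨div_ne_zero one_ne_zero h4, ?_, ?_, ?_⟩ <;> intro e0 <;> field_simp at e0
  · exact h.three_ne hF hp (by linear_combination -e0)
  · exact h.seven_ne hF hp (by linear_combination -e0)
  · exact h.five_ne hF hp (by linear_combination e0)

/-- One two and two ones. -/
theorem plane_two_one {y : Fin 5 → F} (hy : y ∈ Y) {a b c d e : Fin 5} (hba : b ≠ a) (hca : c ≠ a)
    (hda : d ≠ a) (hea : e ≠ a) (hbc : b ≠ c) (hbd : b ≠ d) (hbe : b ≠ e) (hcd : c ≠ d) (hce : c ≠ e)
    (hde : d ≠ e) (ha : quadA y a = 2) (vb : quadA y b = 1) (vc : quadA y c = 1) (hd : y d = 0)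
    (he : y e = 0) : KPlane Y := by
  have h4 := h.four_ne
  obtain ⟨w, wa, wb, wc, wd, we, hdot⟩ :=
    exists_sq_of_perm y hba hca hda hea hbc hbd hbe hcd hce hde 0 0 (y c) (y b) (y a)
  have hw : w ∈ Y := h.inY_exchange hF hp hy c hea.symm hbd hba.symm hda.symm hbe.symm hde.symm
    hca hce hbc.symm hcd (by rw [we]) (by rw [wa, he]) (by rw [wd]) (by rw [wb, hd]) (by rw [wc])
  have hdot' : 4 * (w ⬝ᵥ y) = 1 := by
    rw [dotProduct_comm, hdot, hd, he, ← vc]; simp only [quadA]; ring
  have hz : ∀ i, R w y i = y i - 2 * (w ⬝ᵥ y) * w i := fun i => by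
    simp [R_unit (h.unit _ hw), mul_assoc]
  refine h.plane_of_good hF hp (h.inY_R hy hw) (a := d) ?_ ⟨a, hda.symm, ?_⟩
  · rw [show quadA (R w y) d = (1 : F) / 4 from ?_]
    · exact h.good_quarter hF hp
    simp only [quadA] at vb ⊢
    rw [hz, hd, wd]
    field_simp
    linear_combination (4 * (w ⬝ᵥ y) + 1) * (4 * (y b * y b)) * hdot' + vb
  · rw [hz, wa]
    intro e0
    exact h.two (by rw [← ha]; simp only [quadA]; linear_combination 4 * y a * e0)

/-- Four ones. -/
theorem plane_four_one {y : Fin 5 → F} (hy : y ∈ Y) {a b c d e : Fin 5} (hba : b ≠ a) (hca : c ≠ a)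
    (hda : d ≠ a) (hea : e ≠ a) (hbc : b ≠ c) (hbd : b ≠ d) (hbe : b ≠ e) (hcd : c ≠ d) (hce : c ≠ e)
    (hde : d ≠ e) (ha : quadA y a = 1) (vb : quadA y b = 1) (vc : quadA y c = 1) (vd : quadA y d = 1)
    (he : y e = 0) : KPlane Y := by
  have h4 := h.four_ne
  have hsq : ∀ i, quadA y i = 1 → y i * y i = 1 / 4 := fun i hi => by
    field_simp; simp only [quadA] at hi; linear_combination hi
  obtain ⟨w, wa, wb, wc, wd, we, hdot⟩ :=
    exists_sq_of_perm y hba hca hda hea hbc hbd hbe hcd hce hde 0 (y b) (y c) (y d) (y a)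
  have hw : w ∈ Y := h.inY_exchange hF hp hy d hea.symm hbc hba.symm hca.symm hbe.symm hce.symm
    hda hde hbd.symm hcd.symm (by rw [we]) (by rw [wa, he]) (by rw [wc, hsq b vb, hsq c vc])
    (by rw [wb, hsq b vb, hsq c vc]) (by rw [wd])
  have hdot' : 4 * (w ⬝ᵥ y) = 3 := by
    rw [dotProduct_comm, hdot, he]; simp only [quadA] at vb vc vd
    linear_combination vb + vc + vd
  have hz : ∀ i, R w y i = y i - 2 * (w ⬝ᵥ y) * w i := fun i => by
    simp [R_unit (h.unit _ hw), mul_assoc]
  refine h.plane_of_good hF hp (h.inY_R hy hw) (a := b) ?_ ⟨a, hba.symm, ?_⟩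
  · rw [show quadA (R w y) b = (1 : F) / 4 from ?_]
    · exact h.good_quarter hF hp
    simp only [quadA] at vb ⊢
    rw [hz, wb]
    field_simp
    linear_combination (4 * (w ⬝ᵥ y) - 1) * (4 * (y b * y b)) * hdot' + vb
  · rw [hz, wa]
    intro e0
    exact one_ne_zero (α := F) (by rw [← ha]; simp only [quadA]; linear_combination 4 * y a * e0)

/-- A root of `s² - 3 s + 1` whose quarter is good. -/
theorem plane_pair_good {y : Fin 5 → F} (hy : y ∈ Y) {a b c d e : Fin 5} (hba : b ≠ a) (hca : c ≠ a)
    (hda : d ≠ a) (hea : e ≠ a) (hbc : b ≠ c) (hbd : b ≠ d) (hbe : b ≠ e) (hcd : c ≠ d) (hce : c ≠ e)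
    (hde : d ≠ e) (hA : quadA y a * quadA y a - 3 * quadA y a + 1 = 0)
    (vb : quadA y b = 3 - quadA y a) (hd : y d = 0) (he : y e = 0) (h8 : quadA y a ≠ 8)
    (h53 : 3 * quadA y a ≠ 5) : KPlane Y := by
  have h4 := h.four_ne
  obtain ⟨w, wa, wb, wc, wd, we, hdot⟩ :=
    exists_sq_of_perm y hba hca hda hea hbc hbd hbe hcd hce hde (y a) 0 0 (y b) (y c)
  have hw : w ∈ Y := h.inY_exchange hF hp hy a hbd hce hbc hbe hcd.symm hde
    hba.symm hda.symm hca.symm hea.symm (by rw [wd]) (by rw [wb, hd]) (by rw [we]) (by rw [wc, he])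
    (by rw [wa])
  set A := quadA y a with hAdef
  have hdot' : 4 * (w ⬝ᵥ y) = A := by
    rw [dotProduct_comm, hdot, hd, he, hAdef]; simp only [quadA]; ring
  have hz : ∀ i, R w y i = y i - 2 * (w ⬝ᵥ y) * w i := fun i => by
    simp [R_unit (h.unit _ hw), mul_assoc]
  refine h.plane_of_good hF hp (h.inY_R hy hw) (a := d) ?_ ⟨b, hbd, ?_⟩
  · rw [show quadA (R w y) d = A / 4 from ?_]
    · refine Or.inr ⟨div_ne_zero (fun e0 => ?_) h4, fun e0 => ?_, fun e0 => ?_, fun e0 => ?_⟩
      · rw [e0] at hA; exact one_ne_zero (α := F) (by linear_combination hA)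
      · field_simp at e0
        exact h.five_ne hF hp (by linear_combination hA - (A + 1) * e0)
      · field_simp at e0
        exact h8 (by linear_combination e0)
      · field_simp at e0
        refine h53 (mul_left_cancel₀ (h.three_ne hF hp) ?_)
        linear_combination hA - e0
    simp only [quadA] at vb ⊢
    rw [hz, hd, wd]
    field_simp
    linear_combination (4 * (w ⬝ᵥ y) + A) * (4 * (y b * y b)) * hdot' + A ^ 2 * vb - A * hA
  · rw [hz, wb]
    intro e0
    refine one_ne_zero (α := F) ?_
    have e1 : (3 : F) - A = 0 := by rw [← vb]; simp only [quadA]; linear_combination 4 * y b * e0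
    linear_combination hA + A * e1

/-- Two roots of `s² - 3 s + 1` and a one. -/
theorem plane_pair {y : Fin 5 → F} (hy : y ∈ Y) {a b c d e : Fin 5} (hba : b ≠ a) (hca : c ≠ a)
    (hda : d ≠ a) (hea : e ≠ a) (hbc : b ≠ c) (hbd : b ≠ d) (hbe : b ≠ e) (hcd : c ≠ d) (hce : c ≠ e)
    (hde : d ≠ e) (hA : quadA y a * quadA y a - 3 * quadA y a + 1 = 0)
    (vb : quadA y b = 3 - quadA y a) (vc : quadA y c = 1) (hd : y d = 0) (he : y e = 0) :
    KPlane Y := by
  by_cases hok : quadA y a ≠ 8 ∧ 3 * quadA y a ≠ 5
  · exact h.plane_pair_good hF hp hy hba hca hda hea hbc hbd hbe hcd hce hde hA vb hd he hok.1 hok.2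
  refine h.plane_pair_good hF hp hy (a := b) (b := a) hba.symm hbc.symm hbd.symm hbe.symm hca.symm
    hda.symm hea.symm hcd hce hde (by rw [vb]; linear_combination hA) (by rw [vb]; ring) hd he
    (fun e0 => hok ⟨?_, ?_⟩) (fun e0 => hok ⟨?_, ?_⟩) <;> rw [vb] at e0 <;> intro e1
  · have e13 : ((13 : ℕ) : F) = 0 := by push_cast; linear_combination -e0 - e1
    have e41 : ((41 : ℕ) : F) = 0 := by push_cast; linear_combination hA - (quadA y a + 5) * e1
    exact one_ne_zero (α := F) (by
      push_cast at e13 e41; linear_combination 19 * e13 - 6 * e41)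
  · exact mul_ne_zero (mul_ne_zero h.two h.two) (h.five_ne hF hp) (by linear_combination -3 * e0 - e1)
  · exact mul_ne_zero (mul_ne_zero h.two h.two) (h.five_ne hF hp) (by linear_combination -e0 - 3 * e1)
  · exact one_ne_zero (α := F) (by linear_combination -e0 - e1)

/-- A product with good value gives a plane. -/
theorem plane_turn {y : Fin 5 → F} (hy : y ∈ Y) {a i : Fin 5} (hi : i ≠ a)
    (hg : Good (quadA y a * quadA y i)) (hex : quadA y a ≠ 2 ∨ ∃ j, j ≠ a ∧ j ≠ i ∧ y j ≠ 0 ∧ y a ≠ 0) :
    KPlane Y := by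
  refine h.plane_of_good hF hp (h.inY_turn hy a) (a := i) ?_ ?_
  · rw [show quadA (turn y a) i = quadA y a * quadA y i by
      simp only [quadA, turn_other y hi]; ring]
    exact hg
  · rcases hex with ha | ⟨j, hja, hji, hj, ha⟩
    · exact ⟨a, hi.symm, fun e0 => ha (by
        rw [turn_self] at e0; simp only [quadA]; linear_combination -2 * e0)⟩
    · exact ⟨j, hji, by rw [turn_other y hja]; exact neg_ne_zero.mpr (mul_ne_zero (mul_ne_zero h.two ha) hj)⟩

/-- Beside a root of `s² - 3 s + 1`. -/
theorem beside_root {y : Fin 5 → F} (hy : y ∈ Y) {a : Fin 5}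
    (hA : quadA y a * quadA y a - 3 * quadA y a + 1 = 0)
    (hval : ∀ i, quadA y i = 0 ∨ quadA y i = 1 ∨ quadA y i = 2 ∨
      quadA y i * quadA y i - 3 * quadA y i + 1 = 0) :
    KPlane Y ∨ ∀ i, i ≠ a → quadA y i = 0 ∨ quadA y i = 1 ∨ quadA y i = 3 - quadA y a := by
  have h2 := h.two
  have h3 := h.three_ne hF hp
  refine or_iff_not_imp_left.mpr fun hno i hi => ?_
  set A := quadA y a with hAdef
  set B := quadA y i with hBdef
  have hA0 : A ≠ 0 := fun e0 => one_ne_zero (α := F) (by rw [e0] at hA; linear_combination hA)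
  have hA1 : A ≠ 1 := fun e0 => one_ne_zero (α := F) (by rw [e0] at hA; linear_combination -hA)
  have hA2 : A ≠ 2 := fun e0 => one_ne_zero (α := F) (by rw [e0] at hA; linear_combination -hA)
  rcases hval i with hB | hB | hB | hB
  · exact Or.inl hB
  · exact Or.inr (Or.inl hB)
  · refine absurd (h.plane_turn hF hp hy hi (Or.inr ⟨?_, ?_, ?_, ?_⟩) (Or.inl hA2)) hno <;>
      rw [hB]
    · exact mul_ne_zero hA0 h2
    · exact fun e0 => one_ne_zero (α := F) (by linear_combination (2 * A - 5) * e0 - 4 * hA)
    · exact fun e0 => hA1 (mul_right_cancel₀ h2 (by linear_combination e0))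
    · exact fun e0 => mul_ne_zero h3 (fun e1 : 2 * A - 1 = 0 => one_ne_zero (α := F)
        (by linear_combination (2 * A - 5) * e1 - 4 * hA)) (by linear_combination e0 - 4 * hA)
  · rcases mul_eq_zero.mp (show (B - A) * (B + A - 3) = 0 by linear_combination hB - hA) with e | e
    · rw [sub_eq_zero] at e
      refine absurd (h.plane_turn hF hp hy hi (Or.inr ⟨?_, ?_, ?_, ?_⟩) (Or.inl hA2)) hno <;>
        rw [← hAdef, ← hBdef, e]
      · exact mul_ne_zero hA0 hA0
      · exact fun e0 => h.five_ne hF hp (by linear_combination (3 * A - 7) * (e0 - hA) - 9 * hA)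
      · exact fun e0 => hA1 (mul_left_cancel₀ h3 (by linear_combination e0 - hA))
      · exact fun e0 => mul_ne_zero h.four_ne (mul_ne_zero hA0 hA0)
          (by linear_combination e0 - (A * A + 3 * A + 1) * hA)
    · exact Or.inr (Or.inr (by linear_combination e))

/-- A vector that is no root gives a plane. -/
theorem plane_of_rough {y : Fin 5 → F} (hy : y ∈ Y) (hr : ¬ KRoot y) : KPlane Y := by
  classical
  have h2 := h.two
  have h4 := h.four_ne
  by_cases hg : ∃ a, Good (quadA y a)
  · obtain ⟨a, hga⟩ := hg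
    refine h.plane_of_good hF hp hy hga ?_
    by_contra hcon
    push Not at hcon
    exact hr (Or.inl ⟨a, hcon⟩)
  push Not at hg
  have hval : ∀ i, quadA y i = 0 ∨ quadA y i = 1 ∨ quadA y i = 2 ∨
      quadA y i * quadA y i - 3 * quadA y i + 1 = 0 := fun i => by
    have := hg i; unfold Good at this; push Not at this
    by_cases e0 : quadA y i = 0
    · exact Or.inl e0
    by_cases e1 : quadA y i = 1
    · exact Or.inr (Or.inl e1)
    by_cases e2 : quadA y i = 2
    · exact Or.inr (Or.inr (Or.inl e2))
    exact Or.inr (Or.inr (Or.inr (this.2 e0 e1 e2)))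
  have z : ∀ i, quadA y i = 0 → y i = 0 := fun i => (h.quadA_zero hF hp).mp
  have one : (1 : F) = 0 → ¬ (0 : F) = 0 := fun e _ => one_ne_zero e
  have two : (2 : F) = 0 → ¬ (0 : F) = 0 := fun e _ => h2 e
  have three : (3 : F) = 0 → ¬ (0 : F) = 0 := fun e _ => h.three_ne hF hp e
  have five : (5 : F) = 0 → ¬ (0 : F) = 0 := fun e _ => h.five_ne hF hp e
  by_cases hφ : ∃ a, quadA y a * quadA y a - 3 * quadA y a + 1 = 0
  · obtain ⟨a, hA⟩ := hφ
    rcases h.beside_root hF hp hy hA hval with hP | hv
    · exact hP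
    by_cases hψ : ∃ b, b ≠ a ∧ quadA y b = 3 - quadA y a
    · obtain ⟨b, hba, vb⟩ := hψ
      obtain ⟨c, d, e, hca, hda, hea, hbc, hbd, hbe, hcd, hce, hde⟩ := exists_three a b hba
      rcases h.beside_root hF hp hy (a := b) (by rw [vb]; linear_combination hA) hval with hP | hv'
      · exact hP
      have h01 : ∀ i, i ≠ a → i ≠ b → quadA y i = 0 ∨ quadA y i = 1 := fun i hia hib => by
        rcases hv i hia with e0 | e0 | e0
        · exact Or.inl e0
        · exact Or.inr e0
        rcases hv' i hib with e' | e' | e'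
        · exact Or.inl e'
        · exact Or.inr e'
        rw [vb] at e'
        exfalso
        have e5 : (5 : F) = 0 := by
          linear_combination (2 * quadA y a - 3) * (e0 - e') - 4 * hA
        exact h.five_ne hF hp e5
      have hs := h.sum_quadA hF hp hy hba hca hda hea hbc hbd hbe hcd hce hde
      rw [vb] at hs
      rcases h01 c hca hbc.symm with vc | vc <;> rcases h01 d hda hbd.symm with vd | vd <;>
        rcases h01 e hea hbe.symm with ve | ve <;> rw [vc, vd, ve] at hs
      · exact absurd rfl (one (by linear_combination -hs))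
      · exact h.plane_pair hF hp hy hba hea hca hda hbe hbc hbd (Ne.symm hce) (Ne.symm hde) hcd hA vb ve (z c vc) (z d vd)
      · exact h.plane_pair hF hp hy hba hda hca hea hbd hbc hbe (Ne.symm hcd) hde hce hA vb vd (z c vc) (z e ve)
      · exact absurd rfl (one (by linear_combination hs))
      · exact h.plane_pair hF hp hy hba hca hda hea hbc hbd hbe hcd hce hde hA vb vc (z d vd) (z e ve)
      · exact absurd rfl (one (by linear_combination hs))
      · exact absurd rfl (one (by linear_combination hs))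
      · exact absurd rfl (two (by linear_combination hs))
    · push Not at hψ
      have h01 : ∀ i, i ≠ a → quadA y i = 0 ∨ quadA y i = 1 := fun i hia => by
        rcases hv i hia with e0 | e0 | e0
        · exact Or.inl e0
        · exact Or.inr e0
        · exact absurd e0 (hψ i hia)
      obtain ⟨b, c, d, e, hba, hca, hda, hea, hbc, hbd, hbe, hcd, hce, hde⟩ := exists_others a
      have hs := h.sum_quadA hF hp hy hba hca hda hea hbc hbd hbe hcd hce hde
      set A := quadA y a
      rcases h01 b hba with vb | vb <;> rcases h01 c hca with vc | vc <;>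
        rcases h01 d hda with vd | vd <;> rcases h01 e hea with ve | ve <;> rw [vb, vc, vd, ve] at hs
      · exact absurd rfl (five (by linear_combination hA - (A + 1) * hs))
      · exact absurd rfl (one (by linear_combination hA - A * hs))
      · exact absurd rfl (one (by linear_combination hA - A * hs))
      · exact absurd rfl (one (by linear_combination (A - 1) * hs - hA))
      · exact absurd rfl (one (by linear_combination hA - A * hs))
      · exact absurd rfl (one (by linear_combination (A - 1) * hs - hA))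
      · exact absurd rfl (one (by linear_combination (A - 1) * hs - hA))
      · exact absurd rfl (one (by linear_combination (A - 2) * hs - hA))
      · exact absurd rfl (one (by linear_combination hA - A * hs))
      · exact absurd rfl (one (by linear_combination (A - 1) * hs - hA))
      · exact absurd rfl (one (by linear_combination (A - 1) * hs - hA))
      · exact absurd rfl (one (by linear_combination (A - 2) * hs - hA))
      · exact absurd rfl (one (by linear_combination (A - 1) * hs - hA))
      · exact absurd rfl (one (by linear_combination (A - 2) * hs - hA))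
      · exact absurd rfl (one (by linear_combination (A - 2) * hs - hA))
      · exact absurd rfl (one (by linear_combination hA - (A - 3) * hs))
  push Not at hφ
  have h012 : ∀ i, quadA y i = 0 ∨ quadA y i = 1 ∨ quadA y i = 2 := fun i => by
    rcases hval i with e | e | e | e
    · exact Or.inl e
    · exact Or.inr (Or.inl e)
    · exact Or.inr (Or.inr e)
    · exact absurd e (hφ i)
  by_cases h22 : ∃ a b, a ≠ b ∧ quadA y a = 2 ∧ quadA y b = 2
  · obtain ⟨a, b, hab, ha, hb⟩ := h22
    by_cases hj : ∃ j, j ≠ a ∧ j ≠ b ∧ y j ≠ 0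
    · obtain ⟨j, hja, hjb, hj0⟩ := hj
      refine h.plane_turn hF hp hy (Ne.symm hab) (Or.inl (by rw [ha, hb]; norm_num))
        (Or.inr ⟨j, hja, hjb, hj0, fun e0 => h2 ?_⟩)
      rw [← ha]; simp [quadA, e0]
    · push Not at hj
      refine absurd (Or.inr ⟨a, b, hab, ?_, ?_, hj⟩) hr <;>
        refine mul_left_cancel₀ h2 ?_
      · simp only [quadA] at ha; linear_combination ha
      · simp only [quadA] at hb; linear_combination hb
  push Not at h22
  by_cases hT : ∃ a, quadA y a = 2
  · obtain ⟨a, ha⟩ := hT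
    obtain ⟨b, c, d, e, hba, hca, hda, hea, hbc, hbd, hbe, hcd, hce, hde⟩ := exists_others a
    have h01 : ∀ i, i ≠ a → quadA y i = 0 ∨ quadA y i = 1 := fun i hi => by
      rcases h012 i with e0 | e0 | e0
      · exact Or.inl e0
      · exact Or.inr e0
      · exact absurd e0 (h22 a i (Ne.symm hi) ha)
    have hs := h.sum_quadA hF hp hy hba hca hda hea hbc hbd hbe hcd hce hde
    rw [ha] at hs
    rcases h01 b hba with vb | vb <;> rcases h01 c hca with vc | vc <;>
      rcases h01 d hda with vd | vd <;> rcases h01 e hea with ve | ve <;> rw [vb, vc, vd, ve] at hs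
    · exact absurd rfl (two (by linear_combination -hs))
    · exact absurd rfl (one (by linear_combination -hs))
    · exact absurd rfl (one (by linear_combination -hs))
    · exact h.plane_two_one hF hp hy hda hea hba hca hde (Ne.symm hbd) (Ne.symm hcd) (Ne.symm hbe) (Ne.symm hce) hbc ha vd ve (z b vb) (z c vc)
    · exact absurd rfl (one (by linear_combination -hs))
    · exact h.plane_two_one hF hp hy hca hea hba hda hce (Ne.symm hbc) hcd (Ne.symm hbe) (Ne.symm hde) hbd ha vc ve (z b vb) (z d vd)
    · exact h.plane_two_one hF hp hy hca hda hba hea hcd (Ne.symm hbc) hce (Ne.symm hbd) hde hbe ha vc vd (z b vb) (z e ve)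
    · exact absurd rfl (one (by linear_combination hs))
    · exact absurd rfl (one (by linear_combination -hs))
    · exact h.plane_two_one hF hp hy hba hea hca hda hbe hbc hbd (Ne.symm hce) (Ne.symm hde) hcd ha vb ve (z c vc) (z d vd)
    · exact h.plane_two_one hF hp hy hba hda hca hea hbd hbc hbe (Ne.symm hcd) hde hce ha vb vd (z c vc) (z e ve)
    · exact absurd rfl (one (by linear_combination hs))
    · exact h.plane_two_one hF hp hy hba hca hda hea hbc hbd hbe hcd hce hde ha vb vc (z d vd) (z e ve)
    · exact absurd rfl (one (by linear_combination hs))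
    · exact absurd rfl (one (by linear_combination hs))
    · exact absurd rfl (two (by linear_combination hs))
  push Not at hT
  obtain ⟨a, ha⟩ : ∃ a, quadA y a = 1 := by
    by_contra hcon
    push Not at hcon
    have hall : ∀ i, y i = 0 := fun i => z i (((h012 i).resolve_right
      (fun e0 => e0.elim (hcon i) (hT i))))
    have := h.unit _ hy
    simp [dotProduct, hall] at this
  obtain ⟨b, c, d, e, hba, hca, hda, hea, hbc, hbd, hbe, hcd, hce, hde⟩ := exists_others a
  have h01 : ∀ i, quadA y i = 0 ∨ quadA y i = 1 := fun i =>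
    (h012 i).imp_right fun e0 => e0.resolve_right (hT i)
  have hs := h.sum_quadA hF hp hy hba hca hda hea hbc hbd hbe hcd hce hde
  rw [ha] at hs
  rcases h01 b with vb | vb <;> rcases h01 c with vc | vc <;>
    rcases h01 d with vd | vd <;> rcases h01 e with ve | ve <;> rw [vb, vc, vd, ve] at hs
  · exact absurd rfl (three (by linear_combination -hs))
  · exact absurd rfl (two (by linear_combination -hs))
  · exact absurd rfl (two (by linear_combination -hs))
  · exact absurd rfl (one (by linear_combination -hs))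
  · exact absurd rfl (two (by linear_combination -hs))
  · exact absurd rfl (one (by linear_combination -hs))
  · exact absurd rfl (one (by linear_combination -hs))
  · exact h.plane_four_one hF hp hy hca hda hea hba hcd hce (Ne.symm hbc) hde (Ne.symm hbd) (Ne.symm hbe) ha vc vd ve (z b vb)
  · exact absurd rfl (two (by linear_combination -hs))
  · exact absurd rfl (one (by linear_combination -hs))
  · exact absurd rfl (one (by linear_combination -hs))
  · exact h.plane_four_one hF hp hy hba hda hea hca hbd hbe hbc hde (Ne.symm hcd) (Ne.symm hce) ha vb vd ve (z c vc)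
  · exact absurd rfl (one (by linear_combination -hs))
  · exact h.plane_four_one hF hp hy hba hca hea hda hbc hbe hbd hce hcd (Ne.symm hde) ha vb vc ve (z d vd)
  · exact h.plane_four_one hF hp hy hba hca hda hea hbc hbd hbe hcd hce hde ha vb vc vd (z e ve)
  · exact absurd rfl (one (by linear_combination hs))

/-- **Characteristic at least eleven.** -/
theorem units_large {y : Fin 5 → F} (hy : y ∈ Y) (hr : ¬ KRoot y) {v : Fin 5 → F} (hv : v ⬝ᵥ v = 1) :
    v ∈ Y := h.units_of_plane hF (h.two_ne_prime hF hp) hp (h.plane_of_rough hF hp hy hr) hv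

end Closed

end Cfsg.Agent.TableRelax.Mono
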