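import Cfsg.Agent.Lib.SpFrame96.Closed

/-!
Five coordinates, characteristic at least eleven: a vector that is no root gives a plane.
-/

set_option autoImplicit false
set_option linter.unusedSectionVars false

namespace Cfsg.Agent.TableRelax.Mono

open Matrix

variable {F : Type*} [Field F] [Fintype F] {p : ℕ} [Fact p.Prime]

theorem exists_others : ∀ a : Fin 5, ∃ b c d e : Fin 5, b ≠ a ∧ c ≠ a ∧ d ≠ a ∧ e ≠ a ∧ b ≠ c ∧
    b ≠ d ∧ b ≠ e ∧ c ≠ d ∧ c ≠ e ∧ d ≠ e := by decide

theorem exists_three : ∀ a b : Fin 5, b ≠ a → ∃ c d e : Fin 5, c ≠ a ∧ d ≠ a ∧ e ≠ a ∧ b ≠ c ∧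
    b ≠ d ∧ b ≠ e ∧ c ≠ d ∧ c ≠ e ∧ d ≠ e := by decide

theorem exists_three' : ∀ a d : Fin 5, a ≠ d → ∃ b c e : Fin 5, b ≠ a ∧ c ≠ a ∧ e ≠ a ∧ b ≠ c ∧
    b ≠ e ∧ c ≠ e ∧ b ≠ d ∧ c ≠ d ∧ e ≠ d := by decide

theorem cover_five : ∀ a b c d e : Fin 5, b ≠ a → c ≠ a → d ≠ a → e ≠ a → b ≠ c → b ≠ d → b ≠ e →
    c ≠ d → c ≠ e → d ≠ e → ∀ i, i = a ∨ i = b ∨ i = c ∨ i = d ∨ i = e := by decide

theorem sum_five {a b c d e : Fin 5} (hba : b ≠ a) (hca : c ≠ a) (hda : d ≠ a) (hea : e ≠ a)
    (hbc : b ≠ c) (hbd : b ≠ d) (hbe : b ≠ e) (hcd : c ≠ d) (hce : c ≠ e) (hde : d ≠ e)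
    (f : Fin 5 → F) : ∑ i, f i = f a + (f b + (f c + (f d + f e))) := by
  classical
  rw [show (Finset.univ : Finset (Fin 5)) = {a, b, c, d, e} from (Finset.eq_univ_of_forall fun i => by
    simpa [or_assoc] using cover_five a b c d e hba hca hda hea hbc hbd hbe hcd hce hde i).symm]
  rw [Finset.sum_insert (by simp [hba.symm, hca.symm, hda.symm, hea.symm]),
    Finset.sum_insert (by simp [hbc, hbd, hbe]), Finset.sum_insert (by simp [hcd, hce]),
    Finset.sum_pair hde]

/-- Four times the square of a coordinate. -/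
def quadA (y : Fin 5 → F) (i : Fin 5) : F := 4 * (y i * y i)

namespace Closed

variable {Y : Set (Fin 5 → F)} (h : Closed Y) (hF : Fintype.card F = p) (hp : 11 ≤ p)

include h hF hp

theorem two_ne_prime : p ≠ 2 := by omega

theorem num_ne (m : ℕ) (hm0 : 0 < m) (hm : m < 11) : (m : F) ≠ 0 :=
  natCast_ne hF fun hd => by have := Nat.le_of_dvd hm0 hd; omega

theorem three_ne : (3 : F) ≠ 0 := by exact_mod_cast h.num_ne hF hp 3 (by norm_num) (by norm_num)

theorem five_ne : (5 : F) ≠ 0 := by exact_mod_cast h.num_ne hF hp 5 (by norm_num) (by norm_num)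

theorem six_ne : (6 : F) ≠ 0 := by exact_mod_cast h.num_ne hF hp 6 (by norm_num) (by norm_num)

theorem seven_ne : (7 : F) ≠ 0 := by exact_mod_cast h.num_ne hF hp 7 (by norm_num) (by norm_num)

theorem quadA_zero {y : Fin 5 → F} {i : Fin 5} : quadA y i = 0 ↔ y i = 0 := by
  simp [quadA, h.four_ne]

theorem sum_quadA {y : Fin 5 → F} (hy : y ∈ Y) {a b c d e : Fin 5} (hba : b ≠ a) (hca : c ≠ a)
    (hda : d ≠ a) (hea : e ≠ a) (hbc : b ≠ c) (hbd : b ≠ d) (hbe : b ≠ e) (hcd : c ≠ d) (hce : c ≠ e)
    (hde : d ≠ e) :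
    quadA y a + (quadA y b + (quadA y c + (quadA y d + quadA y e))) = 4 := by
  rw [← sum_five hba hca hda hea hbc hbd hbe hcd hce hde (quadA y)]
  simp only [quadA]
  rw [← Finset.mul_sum, show ∑ i, y i * y i = y ⬝ᵥ y from rfl, h.unit _ hy, mul_one]

/-- A good coordinate with the sum of two. -/
theorem plane_A {y : Fin 5 → F} (hy : y ∈ Y) {a b : Fin 5} (hab : a ≠ b) (hb : y b ≠ 0)
    (hg : Good (quadA y a)) (h0 : quadA y a + quadA y b ≠ 0) (h4 : quadA y a + quadA y b ≠ 4) :
    KPlane Y := by
  refine ⟨a, b, hab, fun α β hu => ?_⟩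
  have := h.unit_A hF (h.two_ne_prime hF hp) hy hab hb hg
    (fun e1 => h4 (by simp only [quadA]; linear_combination -4 * e1))
    (fun e1 => h0 (by simp only [quadA]; linear_combination -4 * e1))
    (α := α) (β := β) (γ := 0) (by linear_combination hu)
  simpa using this

/-- Three equal values four thirds. -/
theorem plane_triple {y : Fin 5 → F} (hy : y ∈ Y) {b c d : Fin 5} (hbc : b ≠ c) (hbd : b ≠ d)
    (hcd : c ≠ d) (eb : 3 * quadA y b = 4) (ec : quadA y c = quadA y b) (ed : quadA y d = quadA y b) :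
    KPlane Y := by
  have h3 := h.three_ne hF hp
  have hb0 : quadA y b ≠ 0 := fun e0 => h.four_ne (by rw [e0] at eb; linear_combination -eb)
  by_cases e11 : (11 : F) = 0
  · have hv : ∀ i, i ≠ b → quadA y i = quadA y b → quadA (turn y b) i = 3 := by
      intro i hi ei
      have : quadA (turn y b) i = quadA y b * quadA y b := by
        calc quadA (turn y b) i = quadA y b * quadA y i := by
              simp only [quadA, turn_other y hi]; ring
          _ = _ := by rw [ei]
      rw [this]
      refine mul_left_cancel₀ (mul_ne_zero h3 h3) ?_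
      linear_combination (3 * quadA y b + 4) * eb - e11
    have hzc := hv c (Ne.symm hbc) ec
    have hzd := hv d (Ne.symm hbd) ed
    refine h.plane_A hF hp (h.inY_turn hy b) hcd
      (fun e0 => h3 (by rw [← hzd, h.quadA_zero hF hp]; exact e0)) ?_ ?_ ?_ <;> rw [hzc]
    · refine Or.inr ⟨h3, ?_, ?_, ?_⟩ <;> intro e0
      · exact h.two (by linear_combination e0)
      · exact one_ne_zero (α := F) (by linear_combination e0)
      · exact one_ne_zero (α := F) (by linear_combination e0)
    · rw [hzd]; intro e0; exact h.six_ne hF hp (by linear_combination e0)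
    · rw [hzd]; intro e0; exact h.two (by linear_combination e0)
  refine h.plane_A hF hp hy hbc (fun e0 => hb0 (by rw [← ec, h.quadA_zero hF hp]; exact e0)) ?_ ?_ ?_
  · refine Or.inr ⟨hb0, ?_, ?_, ?_⟩ <;> intro e0
    · exact one_ne_zero (α := F) (by linear_combination 3 * e0 - eb)
    · exact h.two (by linear_combination eb - 3 * e0)
    · exact e11 (by linear_combination (3 * quadA y b - 5) * eb - 9 * e0)
  · rw [ec]; exact fun e0 => mul_ne_zero h.two hb0 (by linear_combination e0)
  · rw [ec]; intro e0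
    have e2 : quadA y b = 2 := mul_left_cancel₀ h.two (by linear_combination e0)
    exact h.two (by linear_combination eb - 3 * e2)

/-- Two equal values eight thirds. -/
theorem plane_double {y : Fin 5 → F} (hy : y ∈ Y) {b c : Fin 5} (hbc : b ≠ c)
    (eb : 3 * quadA y b = 8) (ec : quadA y c = quadA y b) : KPlane Y := by
  have h3 := h.three_ne hF hp
  have h4 := h.four_ne
  have hb0 : quadA y b ≠ 0 := fun e0 => mul_ne_zero h.two h4 (by rw [e0] at eb; linear_combination -eb)
  refine h.plane_A hF hp hy hbc (fun e0 => hb0 (by rw [← ec, h.quadA_zero hF hp]; exact e0)) ?_ ?_ ?_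
  · refine Or.inr ⟨hb0, ?_, ?_, ?_⟩ <;> intro e0
    · exact h.five_ne hF hp (by linear_combination 3 * e0 - eb)
    · exact h.two (by linear_combination 3 * e0 - eb)
    · exact one_ne_zero (α := F) (by linear_combination 9 * e0 - (3 * quadA y b - 1) * eb)
  · rw [ec]; exact fun e0 => mul_ne_zero h.two hb0 (by linear_combination e0)
  · rw [ec]; intro e0
    have e2 : quadA y b = 2 := mul_left_cancel₀ h.two (by linear_combination e0)
    exact h.two (by linear_combination 3 * e2 - eb)

/-- A good coordinate and another non-zero one. -/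
theorem plane_of_good {y : Fin 5 → F} (hy : y ∈ Y) {a : Fin 5} (hg : Good (quadA y a))
    (hex : ∃ b, b ≠ a ∧ y b ≠ 0) : KPlane Y := by
  classical
  have h2 := h.two
  have h3 := h.three_ne hF hp
  have h4 := h.four_ne
  set A := quadA y a with hA
  have hA0 : A ≠ 0 := by
    rcases hg with hg | hg
    · rw [hg]; exact h4
    · exact hg.1
  by_cases hgen : ∃ b, b ≠ a ∧ y b ≠ 0 ∧ A + quadA y b ≠ 0 ∧ A + quadA y b ≠ 4
  · obtain ⟨b, hba, hb, hs0, hs4⟩ := hgen
    exact h.plane_A hF hp hy (Ne.symm hba) hb hg hs0 hs4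
  push Not at hgen
  have hval : ∀ i, i ≠ a → quadA y i = 0 ∨ quadA y i = -A ∨ quadA y i = 4 - A := fun i hi => by
    by_cases h0 : y i = 0
    · exact Or.inl ((h.quadA_zero hF hp).mpr h0)
    · by_cases h1 : A + quadA y i = 0
      · exact Or.inr (Or.inl (by linear_combination h1))
      · exact Or.inr (Or.inr (by linear_combination hgen i hi h0 h1))
  have hA4 : A ≠ 4 := by
    intro e4
    have hval' : ∀ i, i ≠ a → quadA y i = 0 ∨ quadA y i = -4 := fun i hi => by
      rcases hval i hi with e | e | e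
      · exact Or.inl e
      · exact Or.inr (by rw [e, e4])
      · exact Or.inl (by rw [e, e4, sub_self])
    obtain ⟨b, hba, hb⟩ := hex
    obtain ⟨c, d, e, hca, hda, hea, hbc, hbd, hbe, hcd, hce, hde⟩ : ∃ c d e : Fin 5, c ≠ a ∧ d ≠ a ∧
        e ≠ a ∧ b ≠ c ∧ b ≠ d ∧ b ≠ e ∧ c ≠ d ∧ c ≠ e ∧ d ≠ e := exists_three a b hba
    have hs := h.sum_quadA hF hp hy hba hca hda hea hbc hbd hbe hcd hce hde
    rw [← hA, e4, (hval' b hba).resolve_left (fun e0 => hb ((h.quadA_zero hF hp).mp e0))] at hs
    rcases hval' c hca with vc | vc <;> rcases hval' d hda with vd | vd <;>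
      rcases hval' e hea with ve | ve <;> rw [vc, vd, ve] at hs
    · exact h4 (by linear_combination -hs)
    · exact mul_ne_zero h2 h4 (by linear_combination -hs)
    · exact mul_ne_zero h2 h4 (by linear_combination -hs)
    · exact mul_ne_zero h3 h4 (by linear_combination -hs)
    · exact mul_ne_zero h2 h4 (by linear_combination -hs)
    · exact mul_ne_zero h3 h4 (by linear_combination -hs)
    · exact mul_ne_zero h3 h4 (by linear_combination -hs)
    · exact mul_ne_zero h4 h4 (by linear_combination -hs)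
  have hρ : 1 - y a * y a ≠ 0 := fun e0 => hA4 (by simp only [hA, quadA]; linear_combination -4 * e0)
  have ha : y a ≠ 0 := fun e0 => hA0 ((h.quadA_zero hF hp).mpr e0)
  by_cases hzero : ∃ d, y d = 0
  · obtain ⟨d, hd⟩ := hzero
    have had : a ≠ d := fun e1 => ha (e1 ▸ hd)
    obtain ⟨b, c, e, hba, hca, hea, hbc, hbe, hce, hdb, hdc, hde⟩ : ∃ b c e : Fin 5, b ≠ a ∧ c ≠ a ∧
        e ≠ a ∧ b ≠ c ∧ b ≠ e ∧ c ≠ e ∧ b ≠ d ∧ c ≠ d ∧ e ≠ d := exists_three' a d had
    have key : ∀ u v, u ≠ a → v ≠ a → u ≠ d → v ≠ d → u ≠ v → quadA y u = quadA y v → KPlane Y := by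
      intro u v hua hva hud hvd huv heq
      have hsq : y u * y u = y v * y v := mul_left_cancel₀ h4 heq
      exact ⟨a, d, had, fun α β hu => h.unit_B hF (h.two_ne_prime hF hp) hy had hd
        (h.inY_swap hy hd had huv hua hud hva hvd hsq) ha hρ (Or.inl hg) hu⟩
    have hs := h.sum_quadA hF hp hy hba hca hea (Ne.symm had) hbc hbe hdb hce hdc hde
    rw [(h.quadA_zero hF hp).mpr hd, ← hA] at hs
    rcases hval b hba with vb | vb | vb <;> rcases hval c hca with vc | vc | vc <;>
      rcases hval e hea with ve | ve | ve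
    · exact key b c hba hca hdb hdc hbc (vb.trans vc.symm)
    · exact key b c hba hca hdb hdc hbc (vb.trans vc.symm)
    · exact key b c hba hca hdb hdc hbc (vb.trans vc.symm)
    · exact key b e hba hea hdb hde hbe (vb.trans ve.symm)
    · exact key c e hca hea hdc hde hce (vc.trans ve.symm)
    · rw [vb, vc, ve] at hs; exact absurd (by linear_combination -hs) hA0
    · exact key b e hba hea hdb hde hbe (vb.trans ve.symm)
    · rw [vb, vc, ve] at hs; exact absurd (by linear_combination -hs) hA0
    · exact key c e hca hea hdc hde hce (vc.trans ve.symm)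
    · exact key c e hca hea hdc hde hce (vc.trans ve.symm)
    · exact key b e hba hea hdb hde hbe (vb.trans ve.symm)
    · rw [vb, vc, ve] at hs; exact absurd (by linear_combination -hs) hA0
    · exact key b c hba hca hdb hdc hbc (vb.trans vc.symm)
    · exact key b c hba hca hdb hdc hbc (vb.trans vc.symm)
    · exact key b c hba hca hdb hdc hbc (vb.trans vc.symm)
    · rw [vb, vc, ve] at hs; exact absurd (by linear_combination -hs) hA0
    · exact key b e hba hea hdb hde hbe (vb.trans ve.symm)
    · exact key c e hca hea hdc hde hce (vc.trans ve.symm)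
    · exact key c e hca hea hdc hde hce (vc.trans ve.symm)
    · rw [vb, vc, ve] at hs; exact absurd (by linear_combination -hs) hA0
    · exact key b e hba hea hdb hde hbe (vb.trans ve.symm)
    · rw [vb, vc, ve] at hs; exact absurd (by linear_combination -hs) hA0
    · exact key c e hca hea hdc hde hce (vc.trans ve.symm)
    · exact key b e hba hea hdb hde hbe (vb.trans ve.symm)
    · exact key b c hba hca hdb hdc hbc (vb.trans vc.symm)
    · exact key b c hba hca hdb hdc hbc (vb.trans vc.symm)
    · exact key b c hba hca hdb hdc hbc (vb.trans vc.symm)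
  push Not at hzero
  have hnz : ∀ i, i ≠ a → quadA y i = -A ∨ quadA y i = 4 - A := fun i hi =>
    (hval i hi).resolve_left fun e0 => hzero i ((h.quadA_zero hF hp).mp e0)
  obtain ⟨b, c, d, e, hba, hca, hda, hea, hbc, hbd, hbe, hcd, hce, hde⟩ := exists_others a
  have hs := h.sum_quadA hF hp hy hba hca hda hea hbc hbd hbe hcd hce hde
  rw [← hA] at hs
  rcases hnz b hba with vb | vb <;> rcases hnz c hca with vc | vc <;> rcases hnz d hda with vd | vd <;>
    rcases hnz e hea with ve | ve <;> rw [vb, vc, vd, ve] at hs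
  · exact h.plane_triple hF hp hy hbc hbd hcd (by rw [vb]; linear_combination hs) (vc.trans vb.symm) (vd.trans vb.symm)
  · exact absurd (mul_left_cancel₀ h3 (by linear_combination -hs)) hA0
  · exact absurd (mul_left_cancel₀ h3 (by linear_combination -hs)) hA0
  · exact h.plane_double hF hp hy hde (by rw [vd]; linear_combination hs) (ve.trans vd.symm)
  · exact absurd (mul_left_cancel₀ h3 (by linear_combination -hs)) hA0
  · exact h.plane_double hF hp hy hce (by rw [vc]; linear_combination hs) (ve.trans vc.symm)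
  · exact h.plane_double hF hp hy hcd (by rw [vc]; linear_combination hs) (vd.trans vc.symm)
  · exact h.plane_triple hF hp hy hcd hce hde (by rw [vc]; linear_combination hs) (vd.trans vc.symm) (ve.trans vc.symm)
  · exact absurd (mul_left_cancel₀ h3 (by linear_combination -hs)) hA0
  · exact h.plane_double hF hp hy hbe (by rw [vb]; linear_combination hs) (ve.trans vb.symm)
  · exact h.plane_double hF hp hy hbd (by rw [vb]; linear_combination hs) (vd.trans vb.symm)
  · exact h.plane_triple hF hp hy hbd hbe hde (by rw [vb]; linear_combination hs) (vd.trans vb.symm) (ve.trans vb.symm)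
  · exact h.plane_double hF hp hy hbc (by rw [vb]; linear_combination hs) (vc.trans vb.symm)
  · exact h.plane_triple hF hp hy hbc hbe hce (by rw [vb]; linear_combination hs) (vc.trans vb.symm) (ve.trans vb.symm)
  · exact h.plane_triple hF hp hy hbc hbd hcd (by rw [vb]; linear_combination hs) (vc.trans vb.symm) (vd.trans vb.symm)
  · exact absurd (mul_left_cancel₀ h3 (by linear_combination -hs)) hA4

end Closed

end Cfsg.Agent.TableRelax.Mono
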