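import Cfsg.Agent.Lib.SpFrame96.Rough
import Mathlib.Data.ZMod.Basic

/-!
Five coordinates, `p = 3, 5, 7`: vectors are sorted by the number of coordinates with a given square, and one
reflection leads from each class to a central one and back.
-/

set_option autoImplicit false

namespace Cfsg.Agent.TableRelax.Mono

open Matrix

variable {p : ℕ} [Fact p.Prime]

/-- The number of coordinates with square `s`. -/
def sqCount (v : Fin 5 → ZMod p) (s : ZMod p) : ℕ :=
  (Finset.univ.filter fun i => v i * v i = s).card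

/-- All unit vectors with key `C` lie in the set. -/
def Has (Y : Set (Fin 5 → ZMod p)) (K : (Fin 5 → ZMod p) → ℕ × ℕ × ℕ) (C : ℕ × ℕ × ℕ) : Prop :=
  ∀ v, v ⬝ᵥ v = 1 → K v = C → v ∈ Y

theorem sqCount_sum (v : Fin 5 → ZMod p) : ∑ s, sqCount v s = 5 := by
  simp only [sqCount]
  rw [← Finset.card_eq_sum_card_fiberwise (fun i _ => Finset.mem_univ _)]
  simp

theorem sqCount_weight {v : Fin 5 → ZMod p} (hv : v ⬝ᵥ v = 1) :
    ∑ s : ZMod p, (sqCount v s : ZMod p) * s = 1 := by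
  conv_rhs => rw [← hv]
  rw [dotProduct, ← Finset.sum_fiberwise Finset.univ (fun i => v i * v i) (fun i => v i * v i)]
  refine Finset.sum_congr rfl fun s _ => ?_
  rw [Finset.sum_congr rfl fun i hi => (Finset.mem_filter.mp hi).2, Finset.sum_const, nsmul_eq_mul]
  rfl

theorem sqCount_none (v : Fin 5 → ZMod p) {s : ZMod p} (hs : ∀ x : ZMod p, x * x ≠ s) :
    sqCount v s = 0 := by
  simp [sqCount, hs]

theorem root_of_axis {v : Fin 5 → ZMod p} (hv : sqCount v 0 = 4) : KRoot v := by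
  have h1 : (Finset.univ.filter fun i => v i * v i = 0)ᶜ.card = 1 := by
    rw [Finset.card_compl]; simp only [sqCount] at hv; rw [hv]; rfl
  obtain ⟨a, ha⟩ := Finset.card_eq_one.mp h1
  refine Or.inl ⟨a, fun i hi => ?_⟩
  by_contra h0
  have : i ∈ (Finset.univ.filter fun i => v i * v i = 0)ᶜ := by simp [h0]
  rw [ha, Finset.mem_singleton] at this
  exact hi this

theorem root_of_diag {v : Fin 5 → ZMod p} {s : ZMod p} (hs0 : s ≠ 0) (hs : 2 * s = 1)
    (h2 : sqCount v s = 2) (h0 : sqCount v 0 = 3) : KRoot v := by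
  have h1 : (Finset.univ.filter fun i => v i * v i = 0)ᶜ.card = 2 := by
    rw [Finset.card_compl]; simp only [sqCount] at h0; rw [h0]; rfl
  obtain ⟨a, b, hab, hS⟩ := Finset.card_eq_two.mp h2
  have hsub : (Finset.univ.filter fun i => v i * v i = s) ⊆
      (Finset.univ.filter fun i => v i * v i = 0)ᶜ := fun i hi => by
    simp only [Finset.mem_filter, Finset.mem_univ, true_and, Finset.mem_compl] at hi ⊢
    rw [hi]; exact hs0
  have heq := Finset.eq_of_subset_of_card_le hsub (le_of_eq (h1.trans h2.symm))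
  have hmem : ∀ i, i ∈ (Finset.univ.filter fun i => v i * v i = s) ↔ i = a ∨ i = b := fun i => by
    rw [hS]; simp
  refine Or.inr ⟨a, b, hab, ?_, ?_, fun i hia hib => ?_⟩
  · rw [(Finset.mem_filter.mp ((hmem a).mpr (Or.inl rfl))).2, hs]
  · rw [(Finset.mem_filter.mp ((hmem b).mpr (Or.inr rfl))).2, hs]
  · by_contra hne
    have : i ∈ (Finset.univ.filter fun i => v i * v i = 0)ᶜ := by simp [hne]
    rw [← heq, hmem] at this
    exact this.elim hia hib

namespace Closed

variable {Y : Set (Fin 5 → ZMod p)} (h : Closed Y)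

include h

theorem inY_of_counts (hsq : ∀ f : Fin 5 → ZMod p, ∃ i j, i ≠ j ∧ f i * f i = f j * f j)
    {v w : Fin 5 → ZMod p} (hw : w ∈ Y) (hc : ∀ s, sqCount v s = sqCount w s) : v ∈ Y := by
  classical
  have e : ∀ s, {i // w i * w i = s} ≃ {i // v i * v i = s} := fun s =>
    Fintype.equivOfCardEq (by
      rw [Fintype.card_subtype, Fintype.card_subtype]; exact (hc s).symm)
  set σ : Equiv.Perm (Fin 5) := Equiv.ofFiberEquiv e with hσdef
  have hσ : ∀ i, v (σ i) * v (σ i) = w i * w i := fun i => Equiv.ofFiberEquiv_map e i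
  rcases Int.units_eq_one_or (Equiv.Perm.sign σ) with hs | hs
  · exact h.inY_perm_sq hs hw hσ
  obtain ⟨i, j, hij, heq⟩ := hsq w
  refine h.inY_perm_sq (σ := σ * Equiv.swap i j) ?_ hw fun k => ?_
  · rw [map_mul, hs, Equiv.Perm.sign_swap hij]; decide
  rw [Equiv.Perm.mul_apply, hσ]
  rcases eq_or_ne k i with rfl | hki
  · rw [Equiv.swap_apply_left, heq]
  rcases eq_or_ne k j with rfl | hkj
  · rw [Equiv.swap_apply_right, heq]
  rw [Equiv.swap_apply_of_ne_of_ne hki hkj]

variable (K : (Fin 5 → ZMod p) → ℕ × ℕ × ℕ)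

theorem has_of_mem (hK : (∀ f : Fin 5 → ZMod p, ∃ i j, i ≠ j ∧ f i * f i = f j * f j) ∧
      ∀ v w, K v = K w → ∀ s, sqCount v s = sqCount w s)
    {y : Fin 5 → ZMod p} (hy : y ∈ Y) {C : ℕ × ℕ × ℕ} (hC : K y = C) : Has Y K C :=
  fun v _ hv => h.inY_of_counts hK.1 hy (hK.2 v y (hv.trans hC.symm))

theorem step (hK : (∀ f : Fin 5 → ZMod p, ∃ i j, i ≠ j ∧ f i * f i = f j * f j) ∧
      ∀ v w, K v = K w → ∀ s, sqCount v s = sqCount w s)
    {C C' : ℕ × ℕ × ℕ} (hC : Has Y K C) (y w : Fin 5 → ZMod p) (hy : y ⬝ᵥ y = 1) (hw : w ⬝ᵥ w = 1)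
    (hKy : K y = C) (hKw : K w = C) (hz : K (y - (2 * (w ⬝ᵥ y)) • w) = C') : Has Y K C' := by
  have := h.inY_R (hC y hy hKy) (hC w hw hKw)
  rw [R_unit hw] at this
  exact h.has_of_mem K hK this hz

end Closed

theorem exists_rep_of_card {α : Type*} [DecidableEq α] (S : Finset α) (hS : S.card < 5)
    (f : Fin 5 → α) (hf : ∀ i, f i ∈ S) : ∃ i j, i ≠ j ∧ f i = f j := by
  obtain ⟨i, -, j, -, hij, h⟩ := Finset.exists_ne_map_eq_of_card_lt_of_maps_to
    (s := Finset.univ) (t := S) (f := f) (by simpa using hS) (fun i _ => hf i)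
  exact ⟨i, j, hij, h⟩

local instance : Fact (Nat.Prime 3) := ⟨by norm_num⟩
local instance : Fact (Nat.Prime 5) := ⟨by norm_num⟩
local instance : Fact (Nat.Prime 7) := ⟨by norm_num⟩

/-- The key at three. -/
def key3 (v : Fin 5 → ZMod 3) : ℕ × ℕ × ℕ := (sqCount v 1, 0, 0)

/-- The key at five. -/
def key5 (v : Fin 5 → ZMod 5) : ℕ × ℕ × ℕ := (sqCount v 1, sqCount v 4, 0)

/-- The key at seven. -/
def key7 (v : Fin 5 → ZMod 7) : ℕ × ℕ × ℕ := (sqCount v 1, sqCount v 2, sqCount v 4)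

theorem total3 (v : Fin 5 → ZMod 3) : sqCount v 0 + sqCount v 1 = 5 ∧ sqCount v 2 = 0 := by
  have h := sqCount_sum v
  have n2 := sqCount_none v (s := 2) (by decide)
  rw [show (Finset.univ : Finset (ZMod 3)) = {0, 1, 2} by decide] at h
  repeat rw [Finset.sum_insert (by decide)] at h
  rw [Finset.sum_singleton, n2] at h
  exact ⟨by omega, n2⟩

theorem total5 (v : Fin 5 → ZMod 5) :
    sqCount v 0 + sqCount v 1 + sqCount v 4 = 5 ∧ sqCount v 2 = 0 ∧ sqCount v 3 = 0 := by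
  have h := sqCount_sum v
  have n2 := sqCount_none v (s := 2) (by decide)
  have n3 := sqCount_none v (s := 3) (by decide)
  rw [show (Finset.univ : Finset (ZMod 5)) = {0, 1, 2, 3, 4} by decide] at h
  repeat rw [Finset.sum_insert (by decide)] at h
  rw [Finset.sum_singleton, n2, n3] at h
  exact ⟨by omega, n2, n3⟩

theorem total7 (v : Fin 5 → ZMod 7) :
    sqCount v 0 + sqCount v 1 + sqCount v 2 + sqCount v 4 = 5 ∧
      sqCount v 3 = 0 ∧ sqCount v 5 = 0 ∧ sqCount v 6 = 0 := by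
  have h := sqCount_sum v
  have n3 := sqCount_none v (s := 3) (by decide)
  have n5 := sqCount_none v (s := 5) (by decide)
  have n6 := sqCount_none v (s := 6) (by decide)
  rw [show (Finset.univ : Finset (ZMod 7)) = {0, 1, 2, 3, 4, 5, 6} by decide] at h
  repeat rw [Finset.sum_insert (by decide)] at h
  rw [Finset.sum_singleton, n3, n5, n6] at h
  exact ⟨by omega, n3, n5, n6⟩

theorem counts3 {v : Fin 5 → ZMod 3} (hv : v ⬝ᵥ v = 1) :
    sqCount v 0 + sqCount v 1 = 5 ∧ sqCount v 1 % 3 = 1 := by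
  obtain ⟨h, n2⟩ := total3 v
  refine ⟨h, ?_⟩
  have hw := sqCount_weight hv
  rw [show (Finset.univ : Finset (ZMod 3)) = {0, 1, 2} by decide] at hw
  repeat rw [Finset.sum_insert (by decide)] at hw
  rw [Finset.sum_singleton, n2] at hw
  refine (ZMod.natCast_eq_natCast_iff' _ 1 3).mp ?_
  push_cast at hw ⊢
  linear_combination hw

theorem counts5 {v : Fin 5 → ZMod 5} (hv : v ⬝ᵥ v = 1) :
    sqCount v 0 + sqCount v 1 + sqCount v 4 = 5 ∧ (sqCount v 1 + 4 * sqCount v 4) % 5 = 1 := by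
  obtain ⟨h, n2, n3⟩ := total5 v
  refine ⟨h, ?_⟩
  have hw := sqCount_weight hv
  rw [show (Finset.univ : Finset (ZMod 5)) = {0, 1, 2, 3, 4} by decide] at hw
  repeat rw [Finset.sum_insert (by decide)] at hw
  rw [Finset.sum_singleton, n2, n3] at hw
  refine (ZMod.natCast_eq_natCast_iff' _ 1 5).mp ?_
  push_cast at hw ⊢
  linear_combination hw

theorem counts7 {v : Fin 5 → ZMod 7} (hv : v ⬝ᵥ v = 1) :
    sqCount v 0 + sqCount v 1 + sqCount v 2 + sqCount v 4 = 5 ∧
      (sqCount v 1 + 2 * sqCount v 2 + 4 * sqCount v 4) % 7 = 1 := by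
  obtain ⟨h, n3, n5, n6⟩ := total7 v
  refine ⟨h, ?_⟩
  have hw := sqCount_weight hv
  rw [show (Finset.univ : Finset (ZMod 7)) = {0, 1, 2, 3, 4, 5, 6} by decide] at hw
  repeat rw [Finset.sum_insert (by decide)] at hw
  rw [Finset.sum_singleton, n3, n5, n6] at hw
  refine (ZMod.natCast_eq_natCast_iff' _ 1 7).mp ?_
  push_cast at hw ⊢
  linear_combination hw

theorem counts_ext3 : (∀ f : Fin 5 → ZMod 3, ∃ i j, i ≠ j ∧ f i * f i = f j * f j) ∧
    ∀ v w, key3 v = key3 w → ∀ s, sqCount v s = sqCount w s := by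
  refine ⟨fun f => exists_rep_of_card {0, 1} (by decide) _ fun i => ?_, fun v w hk s => ?_⟩
  · exact (by decide : ∀ x : ZMod 3, x * x ∈ ({0, 1} : Finset (ZMod 3))) (f i)
  simp only [key3, Prod.mk.injEq] at hk
  have tv := total3 v
  have tw := total3 w
  rcases (by decide : ∀ s : ZMod 3, s = 0 ∨ s = 1 ∨ s = 2) s with rfl | rfl | rfl <;> omega

theorem counts_ext5 : (∀ f : Fin 5 → ZMod 5, ∃ i j, i ≠ j ∧ f i * f i = f j * f j) ∧
    ∀ v w, key5 v = key5 w → ∀ s, sqCount v s = sqCount w s := by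
  refine ⟨fun f => exists_rep_of_card {0, 1, 4} (by decide) _ fun i => ?_, fun v w hk s => ?_⟩
  · exact (by decide : ∀ x : ZMod 5, x * x ∈ ({0, 1, 4} : Finset (ZMod 5))) (f i)
  simp only [key5, Prod.mk.injEq] at hk
  have tv := total5 v
  have tw := total5 w
  rcases (by decide : ∀ s : ZMod 5, s = 0 ∨ s = 1 ∨ s = 2 ∨ s = 3 ∨ s = 4) s with
    rfl | rfl | rfl | rfl | rfl <;> omega

theorem counts_ext7 : (∀ f : Fin 5 → ZMod 7, ∃ i j, i ≠ j ∧ f i * f i = f j * f j) ∧
    ∀ v w, key7 v = key7 w → ∀ s, sqCount v s = sqCount w s := by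
  refine ⟨fun f => exists_rep_of_card {0, 1, 2, 4} (by decide) _ fun i => ?_, fun v w hk s => ?_⟩
  · exact (by decide : ∀ x : ZMod 7, x * x ∈ ({0, 1, 2, 4} : Finset (ZMod 7))) (f i)
  simp only [key7, Prod.mk.injEq] at hk
  have tv := total7 v
  have tw := total7 w
  rcases (by decide : ∀ s : ZMod 7, s = 0 ∨ s = 1 ∨ s = 2 ∨ s = 3 ∨ s = 4 ∨ s = 5 ∨ s = 6) s with
    rfl | rfl | rfl | rfl | rfl | rfl | rfl <;> omega

theorem root_axis3 {v : Fin 5 → ZMod 3} (hv : v ⬝ᵥ v = 1) (hc : key3 v = (1, 0, 0)) : KRoot v := by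
  have := counts3 hv; simp only [key3, Prod.mk.injEq] at hc
  exact root_of_axis (by omega)

theorem root_axis5 {v : Fin 5 → ZMod 5} (hv : v ⬝ᵥ v = 1) (hc : key5 v = (1, 0, 0)) : KRoot v := by
  have := counts5 hv; simp only [key5, Prod.mk.injEq] at hc
  exact root_of_axis (by omega)

theorem root_axis7 {v : Fin 5 → ZMod 7} (hv : v ⬝ᵥ v = 1) (hc : key7 v = (1, 0, 0)) : KRoot v := by
  have := counts7 hv; simp only [key7, Prod.mk.injEq] at hc
  exact root_of_axis (by omega)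

theorem root_diag7 {v : Fin 5 → ZMod 7} (hv : v ⬝ᵥ v = 1) (hc : key7 v = (0, 0, 2)) : KRoot v := by
  have := counts7 hv; simp only [key7, Prod.mk.injEq] at hc
  exact root_of_diag (s := 4) (by decide) (by decide) (by omega) (by omega)

theorem types3 {v : Fin 5 → ZMod 3} (hv : v ⬝ᵥ v = 1) :
    key3 v = (1, 0, 0) ∨ key3 v = (4, 0, 0) := by
  have h := counts3 hv
  simp only [key3, Prod.mk.injEq, and_true]
  omega

theorem units3 {Y : Set (Fin 5 → ZMod 3)} (h : Closed Y) {y : Fin 5 → ZMod 3} (hy : y ∈ Y)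
    (hr : ¬ KRoot y) (v : Fin 5 → ZMod 3) (hv : v ⬝ᵥ v = 1) : v ∈ Y := by
  have hH : Has Y key3 (4, 0, 0) := by
    rcases types3 (h.unit _ hy) with hc | hc
    · exact absurd (root_axis3 (h.unit _ hy) hc) hr
    · exact h.has_of_mem key3 counts_ext3 hy hc
  rcases types3 hv with hc | hc
  · exact h.step key3 counts_ext3 hH ![0, 1, 1, 1, 1] ![0, 1, 1, 1, 2] (by decide) (by decide) (by decide) (by decide)
      (by decide) v hv hc
  · exact hH v hv hc

theorem types5 {v : Fin 5 → ZMod 5} (hv : v ⬝ᵥ v = 1) :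
    key5 v = (1, 0, 0) ∨ key5 v = (2, 1, 0) ∨ key5 v = (0, 4, 0) ∨ key5 v = (3, 2, 0) := by
  have h := counts5 hv
  simp only [key5, Prod.mk.injEq, and_true]
  obtain ⟨c4, hc4⟩ : ∃ c, sqCount v 4 = c := ⟨_, rfl⟩
  simp only [hc4] at h ⊢
  have : c4 ≤ 5 := by omega
  interval_cases c4 <;> omega

theorem units5 {Y : Set (Fin 5 → ZMod 5)} (h : Closed Y) {y : Fin 5 → ZMod 5} (hy : y ∈ Y)
    (hr : ¬ KRoot y) (v : Fin 5 → ZMod 5) (hv : v ⬝ᵥ v = 1) : v ∈ Y := by
  have hH : Has Y key5 (3, 2, 0) := by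
    rcases types5 (h.unit _ hy) with hc | hc | hc | hc
    · exact absurd (root_axis5 (h.unit _ hy) hc) hr
    · exact h.step key5 counts_ext5 (h.has_of_mem key5 counts_ext5 hy hc) ![0, 0, 1, 1, 2] ![1, 1, 2, 0, 0]
        (by decide) (by decide) (by decide) (by decide) (by decide)
    · exact h.step key5 counts_ext5 (h.has_of_mem key5 counts_ext5 hy hc) ![0, 2, 2, 2, 2] ![2, 2, 0, 2, 2]
        (by decide) (by decide) (by decide) (by decide) (by decide)
    · exact h.has_of_mem key5 counts_ext5 hy hc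
  rcases types5 hv with hc | hc | hc | hc
  · exact h.step key5 counts_ext5 hH ![1, 1, 1, 2, 2] ![2, 2, 4, 4, 4] (by decide) (by decide) (by decide) (by decide)
      (by decide) v hv hc
  · exact h.step key5 counts_ext5 hH ![1, 1, 1, 2, 2] ![2, 2, 1, 1, 1] (by decide) (by decide) (by decide) (by decide)
      (by decide) v hv hc
  · exact h.step key5 counts_ext5 hH ![1, 1, 1, 2, 2] ![2, 2, 4, 1, 1] (by decide) (by decide) (by decide) (by decide)
      (by decide) v hv hc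
  · exact hH v hv hc

theorem types7 {v : Fin 5 → ZMod 7} (hv : v ⬝ᵥ v = 1) :
    key7 v = (1, 0, 0) ∨ key7 v = (0, 0, 2) ∨ key7 v = (0, 2, 1) ∨ key7 v = (2, 1, 1) ∨ key7 v = (0, 4, 0) ∨ key7 v = (4, 0, 1) ∨ key7 v = (2, 3, 0) ∨ key7 v = (1, 1, 3) := by
  have h := counts7 hv
  simp only [key7, Prod.mk.injEq, and_true]
  obtain ⟨c2, hc2⟩ : ∃ c, sqCount v 2 = c := ⟨_, rfl⟩
  simp only [hc2] at h ⊢
  have : c2 ≤ 5 := by omega
  obtain ⟨c4, hc4⟩ : ∃ c, sqCount v 4 = c := ⟨_, rfl⟩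
  simp only [hc4] at h ⊢
  have : c4 ≤ 5 := by omega
  interval_cases c2 <;> interval_cases c4 <;> omega

theorem units7 {Y : Set (Fin 5 → ZMod 7)} (h : Closed Y) {y : Fin 5 → ZMod 7} (hy : y ∈ Y)
    (hr : ¬ KRoot y) (v : Fin 5 → ZMod 7) (hv : v ⬝ᵥ v = 1) : v ∈ Y := by
  have hH : Has Y key7 (1, 1, 3) := by
    rcases types7 (h.unit _ hy) with hc | hc | hc | hc | hc | hc | hc | hc
    · exact absurd (root_axis7 (h.unit _ hy) hc) hr
    · exact absurd (root_diag7 (h.unit _ hy) hc) hr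
    · exact h.step key7 counts_ext7 (h.has_of_mem key7 counts_ext7 hy hc) ![0, 0, 3, 3, 2] ![2, 3, 0, 3, 0]
        (by decide) (by decide) (by decide) (by decide) (by decide)
    · exact h.step key7 counts_ext7 (h.has_of_mem key7 counts_ext7 hy hc) ![0, 1, 1, 3, 2] ![1, 2, 0, 3, 1]
        (by decide) (by decide) (by decide) (by decide) (by decide)
    · exact h.step key7 counts_ext7 (h.has_of_mem key7 counts_ext7 hy hc) ![0, 3, 3, 3, 3] ![3, 0, 3, 3, 3]
        (by decide) (by decide) (by decide) (by decide) (by decide)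
    · exact h.step key7 counts_ext7 (h.has_of_mem key7 counts_ext7 hy hc) ![1, 1, 1, 1, 2] ![1, 2, 1, 1, 6]
        (by decide) (by decide) (by decide) (by decide) (by decide)
    · exact h.step key7 counts_ext7 (h.has_of_mem key7 counts_ext7 hy hc) ![1, 1, 3, 3, 3] ![3, 1, 3, 4, 6]
        (by decide) (by decide) (by decide) (by decide) (by decide)
    · exact h.has_of_mem key7 counts_ext7 hy hc
  rcases types7 hv with hc | hc | hc | hc | hc | hc | hc | hc
  · exact h.step key7 counts_ext7 hH ![1, 3, 2, 2, 2] ![1, 4, 2, 2, 2] (by decide) (by decide) (by decide) (by decide)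
      (by decide) v hv hc
  · exact h.step key7 counts_ext7 hH ![1, 3, 2, 2, 2] ![3, 1, 2, 2, 2] (by decide) (by decide) (by decide) (by decide)
      (by decide) v hv hc
  · exact h.step key7 counts_ext7 hH ![1, 3, 2, 2, 2] ![3, 6, 2, 2, 5] (by decide) (by decide) (by decide) (by decide)
      (by decide) v hv hc
  · exact h.step key7 counts_ext7 hH ![1, 3, 2, 2, 2] ![2, 2, 2, 3, 1] (by decide) (by decide) (by decide) (by decide)
      (by decide) v hv hc
  · exact h.step key7 counts_ext7 hH ![1, 3, 2, 2, 2] ![3, 1, 2, 2, 5] (by decide) (by decide) (by decide) (by decide)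
      (by decide) v hv hc
  · exact h.step key7 counts_ext7 hH ![1, 3, 2, 2, 2] ![3, 1, 5, 5, 5] (by decide) (by decide) (by decide) (by decide)
      (by decide) v hv hc
  · exact h.step key7 counts_ext7 hH ![1, 3, 2, 2, 2] ![3, 1, 2, 5, 5] (by decide) (by decide) (by decide) (by decide)
      (by decide) v hv hc
  · exact hH v hv hc
end Cfsg.Agent.TableRelax.Mono
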