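import Cfsg.Agent.Lib.SpFrame96.Cliff
import Cfsg.Agent.Lib.Symplectic.Std

/-!
A subgroup of `Sp₄` containing the involutions of every unit vector is everything.
-/

set_option autoImplicit false

namespace Cfsg.Agent.Lib.SpFrame96

open Matrix Cfsg.Agent.Lib.Elusive19.Pauli4
open scoped commutatorElement
open Cfsg.Agent.TableRelax.Mono (e R P)

local notation "I4" => Fin 2 ⊕ Fin 2

variable {F : Type*} [Field F]

local notation "J4" => Matrix.J (Fin 2) F
local notation "Mat" => Matrix I4 I4 F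

/-- A normal non-central subgroup of the symplectic group is everything. -/
theorem eq_top_of_normal [Fintype F] (h3 : 3 ≤ Fintype.card F)
    (H : Subgroup (symplecticGroup (Fin 2) F)) [H.Normal] (hH : ¬ H ≤ Subgroup.center _) : H = ⊤ := by
  classical
  have hq : ∃ s : Finset F, 3 ≤ s.card := ⟨Finset.univ, h3⟩
  have hsimple := Cfsg.Agent.Lib.Symplectic.isSimpleGroup_psp (F := F) (m := 2) (by norm_num)
    (Or.inr (Or.inl ⟨rfl, hq⟩))
  set π := QuotientGroup.mk' (Subgroup.center (symplecticGroup (Fin 2) F))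
  rcases (Subgroup.Normal.map inferInstance π (QuotientGroup.mk'_surjective _) :
      (H.map π).Normal).eq_bot_or_eq_top with hb | ht
  · exact absurd (fun x hx => (QuotientGroup.eq_one_iff x).mp ((Subgroup.eq_bot_iff_forall _).mp hb
      _ (Subgroup.mem_map_of_mem π hx))) hH
  · rw [eq_top_iff, ← Cfsg.Agent.Lib.Symplectic.commutator_sp_eq_top (F := F) (m := 2)
      (Or.inr (Or.inl ⟨rfl, hq⟩)), commutator_def, Subgroup.commutator_le]
    have hdec : ∀ g, ∃ h ∈ H, ∃ z ∈ Subgroup.center (symplecticGroup (Fin 2) F), g = h * z := fun g => by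
      obtain ⟨h, hh, he⟩ := Subgroup.mem_map.mp (ht ▸ Subgroup.mem_top (π g) : π g ∈ H.map π)
      refine ⟨h, hh, h⁻¹ * g, ?_, by group⟩
      exact QuotientGroup.eq.mp he
    intro g _ g' _
    obtain ⟨h, hh, z, hz, rfl⟩ := hdec g
    obtain ⟨h', hh', z', hz', rfl⟩ := hdec g'
    have e1 : ⁅h * z, h' * z'⁆ = ⁅h, h'⁆ := by
      have c1 : ∀ x, z * x = x * z := fun x => (Subgroup.mem_center_iff.mp hz x).symm
      have c2 : ∀ x, z' * x = x * z' := fun x => (Subgroup.mem_center_iff.mp hz' x).symm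
      simp only [commutatorElement_def, _root_.mul_inv_rev]
      calc h * z * (h' * z') * (z⁻¹ * h⁻¹) * (z'⁻¹ * h'⁻¹)
          = h * (z * (h' * z')) * z⁻¹ * h⁻¹ * z'⁻¹ * h'⁻¹ := by group
        _ = h * h' * (z' * h⁻¹) * z'⁻¹ * h'⁻¹ := by rw [c1]; group
        _ = _ := by rw [c2]; group
    rw [e1, commutatorElement_def]
    exact H.mul_mem (H.mul_mem (H.mul_mem hh hh') (H.inv_mem hh)) (H.inv_mem hh')

theorem mem_sp_of_mem_spGL {g : GL I4 F} (hg : g ∈ Cfsg.spGL 2 F) :
    (g : Mat) ∈ symplecticGroup (Fin 2) F :=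
  SymplecticGroup.mem_iff'.mpr (mat_of_mem_spGL hg)

/-- The symplectic group as a group of units. -/
def toGL : symplecticGroup (Fin 2) F →* GL I4 F :=
  MonoidHom.toHomUnits (symplecticGroup (Fin 2) F).subtype

theorem toGL_coe (A : symplecticGroup (Fin 2) F) : ((toGL A : GL I4 F) : Mat) = (A : Mat) := rfl

theorem toGL_mem (A : symplecticGroup (Fin 2) F) : toGL A ∈ Cfsg.spGL 2 F :=
  mem_spGL_of_mat (by rw [toGL_coe]; exact SymplecticGroup.mem_iff'.mp A.2)

variable {S : Subgroup (GL I4 F)} (Q : Quad S) (hS : S ≤ Cfsg.spGL 2 F)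

include hS

/-- The involutions of the unit vectors generate the symplectic group. -/
theorem spGL_le_of_all_units [Fintype F] (h2 : (2 : F) ≠ 0) (h3 : 3 ≤ Fintype.card F)
    {M : Subgroup (GL I4 F)} (hall : ∀ u (hu : u ⬝ᵥ u = 1), Vu Q h2 u hu ∈ M) :
    Cfsg.spGL 2 F ≤ M := by
  set gens : Set (symplecticGroup (Fin 2) F) := setOf fun A => ∃ u : Fin 5 → F, u ⬝ᵥ u = 1 ∧
    (A : Mat) = V Q u
  set H := Subgroup.closure gens
  have hn : H.Normal := by
    refine ⟨fun x hx g => ?_⟩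
    obtain ⟨f, hf, hdot⟩ := exists_image Q hS h2 (toGL_mem g)
    have hconj : ∀ A ∈ gens, g * A * g⁻¹ ∈ gens := by
      rintro A ⟨u, hu, hA⟩
      refine ⟨f u, by rw [hdot, hu], ?_⟩
      have e : (((toGL g * toGL A * (toGL g)⁻¹ : GL I4 F)) : Mat) = ((g * A * g⁻¹ : symplecticGroup (Fin 2) F) : Mat) := by
        rw [← map_inv, ← map_mul, ← map_mul, toGL_coe]
      rw [← e, Units.val_mul, Units.val_mul, toGL_coe A, hA, hf]
    have hle : H ≤ H.comap (MulAut.conj g).toMonoidHom :=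
      (Subgroup.closure_le _).mpr fun A hA => Subgroup.subset_closure (hconj A hA)
    exact hle hx
  have hmem : ∀ u (hu : u ⬝ᵥ u = 1),
      (⟨(Vu Q h2 u hu : Mat), mem_sp_of_mem_spGL (Vu_mem Q hS h2 hu)⟩ : symplecticGroup (Fin 2) F) ∈ H :=
    fun u hu => Subgroup.subset_closure ⟨u, hu, rfl⟩
  have hnc : ¬ H ≤ Subgroup.center _ := fun hle => by
    have e1 : (e 0 : Fin 5 → F) ⬝ᵥ e 0 = 1 := Cfsg.Agent.TableRelax.Mono.e_dot_self 0
    have e2 : (e 1 : Fin 5 → F) ⬝ᵥ e 1 = 1 := Cfsg.Agent.TableRelax.Mono.e_dot_self 1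
    have hc := congrArg Subtype.val (Subgroup.mem_center_iff.mp (hle (hmem _ e1))
      ⟨_, mem_sp_of_mem_spGL (Vu_mem Q hS h2 e2)⟩)
    have ha := anticomm Q (e 1) (e 0)
    simp only [Submonoid.coe_mul] at hc
    rw [show V Q (e 1) * V Q (e 0) = V Q (e 0) * V Q (e 1) from hc,
      Cfsg.Agent.TableRelax.Mono.e_dot_ne (by decide), mul_zero, zero_smul, ← two_smul F,
      smul_eq_zero] at ha
    have h0 := ha.resolve_left h2
    have h1 := congrArg (fun X => V Q (e 0) * (X * V Q (e 1))) h0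
    simp only [mul_assoc, V_sq Q h2, e2, one_smul, mul_one, e1, zero_mul, mul_zero] at h1
    exact one_ne_zero h1
  have htop := eq_top_of_normal h3 H hnc
  intro g hg
  have hgH : (⟨(g : Mat), mem_sp_of_mem_spGL hg⟩ : symplecticGroup (Fin 2) F) ∈ H := htop ▸ Subgroup.mem_top _
  have hle : H ≤ M.comap toGL := (Subgroup.closure_le _).mpr fun A ⟨u, hu, hA⟩ => by
    show toGL A ∈ M
    rw [show toGL A = Vu Q h2 u hu from Units.ext hA]
    exact hall u hu
  have := hle hgH
  rwa [Subgroup.mem_comap, show toGL ⟨(g : Mat), mem_sp_of_mem_spGL hg⟩ = g from Units.ext rfl] at this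

end Cfsg.Agent.Lib.SpFrame96
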