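import Cfsg.Agent.Lib.TableRelax.Mono.Triple

/-!
Three-dimensional non-degenerate subspaces: maps keeping a set of unit vectors that is closed under its own
reflections, seen in `SL(2, F)`.  (The argument of `TableRelax/Mono/Triple` for an abstract set.)
-/

set_option autoImplicit false

namespace Cfsg.Agent.TableRelax.Mono

open Matrix

variable {F : Type*} [Field F] {n : ℕ}

/-- `g` keeps the set, in both directions. -/
def Keep (Y : Set (Fin n → F)) (g : (Fin n → F) ≃ₗ[F] (Fin n → F)) : Prop := ∀ v, g v ∈ Y ↔ v ∈ Y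

/-- Membership. -/
abbrev KMem (Y : Set (Fin n → F)) (v : Fin n → F) : Prop := v ∈ Y

theorem Keep.mul {Y : Set (Fin n → F)} {g g' : (Fin n → F) ≃ₗ[F] (Fin n → F)} (hg : Keep Y g)
    (hg' : Keep Y g') : Keep Y (g * g') := fun v => (hg _).trans (hg' v)

theorem Keep.inv {Y : Set (Fin n → F)} {g : (Fin n → F) ≃ₗ[F] (Fin n → F)} (hg : Keep Y g) :
    Keep Y g⁻¹ := fun v => by
  conv_rhs => rw [← (show g (g⁻¹ v) = v from LinearEquiv.apply_symm_apply g v)]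
  exact (hg _).symm

/-- A set of unit vectors closed under its own reflections. -/
structure Mirror (Y : Set (Fin n → F)) : Prop where
  unit : ∀ y ∈ Y, y ⬝ᵥ y = 1
  refl : ∀ y ∈ Y, ∀ w ∈ Y, R w y ∈ Y

theorem Mirror.keep_R {Y : Set (Fin n → F)} (h : Mirror Y) {w : Fin n → F} (hw : w ∈ Y) :
    Keep Y (R w) := fun v => by
  refine ⟨fun hv => ?_, fun hv => h.refl _ hv _ hw⟩
  have := h.refl _ hv _ hw
  rwa [← LinearEquiv.mul_apply, R_mul_self, LinearEquiv.coe_one, id_eq] at this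

local notation "M2" => Matrix (Fin 2) (Fin 2) F
local notation "SL2" => Matrix.SpecialLinearGroup (Fin 2) F
local notation "PSL2" => Matrix.ProjectiveSpecialLinearGroup (Fin 2) F

namespace Frame

variable (T : Frame F n)

/-- Equal non-zero norms are exchanged by maps keeping `InY`. -/
def KTransit (Y : Set (Fin n → F)) : Prop :=
  ∀ x x' : F × F × F, Model.q T.ρ x x ≠ 0 → Model.q T.ρ x x = Model.q T.ρ x' x' →
    ∃ g, Keep Y g ∧ (∀ w, T.Perp w → g w = w) ∧ g (T.ι x) = T.ι x'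

theorem KTransit.unit {T : Frame F n} {Y : Set (Fin n → F)}
    (hT : T.KTransit Y) (hf : KMem Y T.f₁) {x : F × F × F} (hx : Model.q T.ρ x x = 1) :
    KMem Y (T.ι x) := by
  obtain ⟨g, hg, -, hgx⟩ := hT (1, 0, 0) x (by simp [Model.q]) (by rw [hx]; simp [Model.q])
  have h1 : T.ι ((1, 0, 0) : F × F × F) = T.f₁ := by simp [ι]
  rw [← hgx, h1]
  exact (hg _).mpr hf

variable (Y : Set (Fin n → F)) (β₁ β₂ : F)

/-- `s` is induced by a map keeping `InY` and fixing the orthogonal space. -/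
def KActs (s : M2) : Prop :=
  ∃ g, Keep Y g ∧ (∀ w, T.Perp w → g w = w) ∧
    ∀ x x', Model.Phi (-T.ρ) β₁ β₂ x' * s = s * Model.Phi (-T.ρ) β₁ β₂ x → g (T.ι x) = T.ι x'

variable {β₁ β₂} (hβ : β₁ * β₁ - -T.ρ * (β₂ * β₂) = -T.ρ) {Y} (h2 : (2 : F) ≠ 0)

include hβ h2 in
/-- The group of induced elements. -/
theorem exists_kacts_group : ∃ N : Subgroup SL2, ∀ s : SL2, s ∈ N ↔ T.KActs Y β₁ β₂ (s : M2) := by
  have hμ : -T.ρ ≠ 0 := neg_ne_zero.mpr T.ρ_ne
  have hinj : ∀ x x', Model.Phi (-T.ρ) β₁ β₂ x = Model.Phi (-T.ρ) β₁ β₂ x' → x = x' :=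
    fun x x' h => by rw [← Model.coord_Phi h2 hμ hβ x, h, Model.coord_Phi h2 hμ hβ]
  refine ⟨{ carrier := setOf fun s : SL2 => T.KActs Y β₁ β₂ (s : M2)
            one_mem' := ?_
            mul_mem' := ?_
            inv_mem' := ?_ }, fun s => Iff.rfl⟩
  · rintro a b ⟨g, hg, hgw, hgx⟩ ⟨g', hg', hgw', hgx'⟩
    refine ⟨g * g', hg.mul hg', fun w hw => by rw [LinearEquiv.mul_apply, hgw' w hw, hgw w hw],
      fun x x' hxx => ?_⟩
    set X := Model.Phi (-T.ρ) β₁ β₂ x with hX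
    set x'' := Model.coord (-T.ρ) β₁ β₂ ((b : M2) * X * ((b⁻¹ : SL2) : M2)) with hx''
    have hinv : ((b⁻¹ : SL2) : M2) * (b : M2) = 1 := by
      rw [← Matrix.SpecialLinearGroup.coe_mul, inv_mul_cancel, Matrix.SpecialLinearGroup.coe_one]
    have hx2 : Model.Phi (-T.ρ) β₁ β₂ x'' * (b : M2) = (b : M2) * X := by
      rw [hx'', Model.Phi_coord h2 hμ hβ, mul_assoc, hinv, mul_one]
      rw [Matrix.trace_mul_comm, ← mul_assoc, hinv, one_mul, hX, Model.Phi_tr]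
    rw [LinearEquiv.mul_apply, hgx' x x'' hx2]
    refine hgx _ _ ?_
    have hb : (b : M2) * ((b⁻¹ : SL2) : M2) = 1 := by
      rw [← Matrix.SpecialLinearGroup.coe_mul, mul_inv_cancel, Matrix.SpecialLinearGroup.coe_one]
    rw [Matrix.SpecialLinearGroup.coe_mul, ← mul_assoc, mul_assoc _ _ X, ← hx2, ← mul_assoc] at hxx
    calc _ = Model.Phi (-T.ρ) β₁ β₂ x' * (a : M2) * (b : M2) * ((b⁻¹ : SL2) : M2) := by
          rw [mul_assoc _ (b : M2), hb, mul_one]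
      _ = (a : M2) * Model.Phi (-T.ρ) β₁ β₂ x'' * (b : M2) * ((b⁻¹ : SL2) : M2) := by rw [hxx]
      _ = _ := by rw [mul_assoc _ (b : M2), hb, mul_one]
  · refine ⟨1, fun _ => Iff.rfl, fun _ _ => rfl, fun x x' h => ?_⟩
    rw [Matrix.SpecialLinearGroup.coe_one, mul_one, one_mul] at h
    rw [hinj _ _ h]
    rfl
  · rintro a ⟨g, hg, hgw, hgx⟩
    refine ⟨g⁻¹, hg.inv, fun w hw => ?_, fun x x' h => ?_⟩
    · show g.symm w = w
      rw [LinearEquiv.symm_apply_eq, hgw w hw]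
    show g.symm (T.ι x) = T.ι x'
    rw [LinearEquiv.symm_apply_eq]
    refine (hgx x' x ?_).symm
    have hinv : ((a⁻¹ : SL2) : M2) * (a : M2) = 1 := by
      rw [← Matrix.SpecialLinearGroup.coe_mul, inv_mul_cancel, Matrix.SpecialLinearGroup.coe_one]
    have hb : (a : M2) * ((a⁻¹ : SL2) : M2) = 1 := by
      rw [← Matrix.SpecialLinearGroup.coe_mul, mul_inv_cancel, Matrix.SpecialLinearGroup.coe_one]
    have h' := congrArg (fun X => (a : M2) * X * (a : M2)) h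
    simp only [mul_assoc, hinv, mul_one] at h'
    simp only [← mul_assoc, hb, one_mul] at h'
    exact h'.symm

omit h2 in
theorem kacts_neg {s : M2} {c : F} (hc : c ≠ 0) (hs : T.KActs Y β₁ β₂ (c • s)) :
    T.KActs Y β₁ β₂ s := by
  obtain ⟨g, hg, hgw, hgx⟩ := hs
  exact ⟨g, hg, hgw, fun x x' h => hgx x x' (by rw [Matrix.mul_smul, Matrix.smul_mul, h])⟩

include hβ h2 in
theorem kacts_pair (hY : Mirror Y) {u v : F × F × F} (hu : Model.q T.ρ u u = 1)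
    (hv : Model.q T.ρ v v = 1) (hu' : KMem Y (T.ι u)) (hv' : KMem Y (T.ι v)) :
    ∃ s : SL2, (s : M2) = (-T.ρ)⁻¹ • (Model.Phi (-T.ρ) β₁ β₂ u * Model.Phi (-T.ρ) β₁ β₂ v) ∧
      T.KActs Y β₁ β₂ (s : M2) := by
  have hμ : -T.ρ ≠ 0 := neg_ne_zero.mpr T.ρ_ne
  have hdet : ((-T.ρ)⁻¹ • (Model.Phi (-T.ρ) β₁ β₂ u * Model.Phi (-T.ρ) β₁ β₂ v)).det = 1 := by
    rw [Matrix.det_smul, Matrix.det_mul, Model.det_Phi hβ rfl, Model.det_Phi hβ rfl, hu, hv,
      Fintype.card_fin]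
    field_simp
    exact div_self T.ρ_ne
  refine ⟨⟨_, hdet⟩, rfl, R (T.ι u) * R (T.ι v), (hY.keep_R hu').mul (hY.keep_R hv'),
    fun w hw => by rw [LinearEquiv.mul_apply, R_perp T v hw, R_perp T u hw], fun x x' h => ?_⟩
  have rule : ∀ w y, Model.q T.ρ w w = 1 →
      Model.Phi (-T.ρ) β₁ β₂ (Model.r T.ρ w y) * Model.Phi (-T.ρ) β₁ β₂ w =
        -(Model.Phi (-T.ρ) β₁ β₂ w * Model.Phi (-T.ρ) β₁ β₂ y) := fun w y hw => by
    have h1 := Model.anti hβ rfl w w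
    rw [hw, ← two_smul F, mul_one] at h1
    have h3 : Model.Phi (-T.ρ) β₁ β₂ w * Model.Phi (-T.ρ) β₁ β₂ w = (-T.ρ) • (1 : M2) :=
      smul_right_injective M2 h2 (by
        show (2 : F) • _ = (2 : F) • _
        rw [h1, smul_smul])
    rw [Model.r, Model.Phi_sub, Model.Phi_smul, Matrix.sub_mul, Matrix.smul_mul, h3, smul_smul,
      eq_neg_iff_add_eq_zero, sub_add_eq_add_sub, add_comm, Model.anti hβ rfl, sub_eq_zero]
    congr 1
    ring
  have hx : Model.Phi (-T.ρ) β₁ β₂ (Model.r T.ρ u (Model.r T.ρ v x)) *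
      ((-T.ρ)⁻¹ • (Model.Phi (-T.ρ) β₁ β₂ u * Model.Phi (-T.ρ) β₁ β₂ v)) =
      ((-T.ρ)⁻¹ • (Model.Phi (-T.ρ) β₁ β₂ u * Model.Phi (-T.ρ) β₁ β₂ v)) *
        Model.Phi (-T.ρ) β₁ β₂ x := by
    rw [Matrix.mul_smul, Matrix.smul_mul, ← mul_assoc, rule u _ hu, neg_mul, mul_assoc,
      rule v _ hv, mul_neg, neg_neg, mul_assoc]
  have hcancel : Model.Phi (-T.ρ) β₁ β₂ x' =
      Model.Phi (-T.ρ) β₁ β₂ (Model.r T.ρ u (Model.r T.ρ v x)) := by
    have hb := Matrix.mul_adjugate ((-T.ρ)⁻¹ • (Model.Phi (-T.ρ) β₁ β₂ u * Model.Phi (-T.ρ) β₁ β₂ v))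
    rw [hdet, one_smul] at hb
    have h5 := congrArg (· * Matrix.adjugate ((-T.ρ)⁻¹ •
      (Model.Phi (-T.ρ) β₁ β₂ u * Model.Phi (-T.ρ) β₁ β₂ v))) (h.trans hx.symm)
    simpa only [mul_assoc, hb, mul_one] using h5
  rw [← Model.coord_Phi h2 hμ hβ x', hcancel, Model.coord_Phi h2 hμ hβ, LinearEquiv.mul_apply,
    R_ι T hv, R_ι T hu]

variable [Fintype F] {p : ℕ} [Fact p.Prime] (hF : Fintype.card F = p) (hp2 : p ≠ 2)

include hβ h2 hF hp2 in
/-- Witnesses give transitivity. -/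
theorem ktransit_of_witness {s t c d : SL2} (hs : T.KActs Y β₁ β₂ (s : M2))
    (ht : T.KActs Y β₁ β₂ (t : M2)) (hc : T.KActs Y β₁ β₂ (c : M2))
    (hd : T.KActs Y β₁ β₂ (d : M2))
    (hst : trace ((s * t * s⁻¹ * t⁻¹ : SL2) : M2) ≠ 2)
    (hts : trace (t : M2) ≠ 0) (hss : trace (s : M2) ≠ 0) (hs2 : trace (s : M2) ^ 2 ≠ 2)
    (hbig : trace (s : M2) ^ 2 = 4 ∨ (trace (s : M2) ^ 2 ≠ 1 ∧
      trace (s : M2) ^ 4 - 3 * trace (s : M2) ^ 2 + 1 ≠ 0))
    (hcd : trace ((c * d * c⁻¹ * d⁻¹ : SL2) : M2) ≠ 2 ∧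
      trace ((c * d * c⁻¹ * d⁻¹ : SL2) : M2) ≠ -2) : T.KTransit Y := by
  obtain ⟨N, hN⟩ := T.exists_kacts_group hβ h2 (Y := Y)
  have htop := Psl.eq_top_of_witness hF hp2 (N.map (QuotientGroup.mk' _))
    (Subgroup.mem_map_of_mem _ ((hN _).mpr hs)) (Subgroup.mem_map_of_mem _ ((hN _).mpr ht))
    (Subgroup.mem_map_of_mem _ ((hN _).mpr hc)) (Subgroup.mem_map_of_mem _ ((hN _).mpr hd))
    hst hts hss hs2 hbig hcd
  have hall : ∀ q : SL2, T.KActs Y β₁ β₂ (q : M2) := fun q => by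
    have hq : (q : PSL2) ∈ N.map (QuotientGroup.mk' _) := by rw [htop]; exact Subgroup.mem_top _
    obtain ⟨q', hq', hqq⟩ := Subgroup.mem_map.mp hq
    obtain ⟨z, hz, hzq⟩ := (QuotientGroup.mk'_eq_mk' _).mp hqq
    obtain ⟨a, ha⟩ := (Cfsg.Agent.Lib.DicksonFull.mem_center_iff_smul z).mp hz
    have ha2 := Psl.scalar_sq ha
    have h := (hN _).mp hq'
    have e : (q' : M2) = a • (q : M2) := by
      rw [← hzq, Matrix.SpecialLinearGroup.coe_mul, ha, Matrix.mul_smul, mul_one, smul_smul,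
        ← pow_two, ha2, one_smul]
    rw [e] at h
    exact T.kacts_neg (fun h0 => by rw [h0] at ha2; simp at ha2) h
  intro x x' hx hxx
  have hμ : -T.ρ ≠ 0 := neg_ne_zero.mpr T.ρ_ne
  set k := -T.ρ * Model.q T.ρ x x with hk
  have hk0 : k ≠ 0 := mul_ne_zero hμ hx
  have hsq : ∀ y, Model.q T.ρ y y = Model.q T.ρ x x →
      Model.Phi (-T.ρ) β₁ β₂ y * Model.Phi (-T.ρ) β₁ β₂ y = k • (1 : M2) := fun y hy => by
    have h1 := Model.anti hβ rfl y y
    rw [hy, ← two_smul F] at h1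
    exact smul_right_injective M2 h2 (by
      show (2 : F) • _ = (2 : F) • _
      rw [h1, smul_smul, hk, mul_assoc])
  obtain ⟨P, hP, hPX⟩ := Model.exists_cyclic h2 hk0 (Model.Phi_one_one x) (hsq x rfl)
  obtain ⟨P', hP', hPX'⟩ := Model.exists_cyclic h2 hk0 (Model.Phi_one_one x') (hsq x' hxx.symm)
  obtain ⟨α, β, hαβ⟩ := exists_norm h2 hk0 (P.det * P'.det)⁻¹
  set C : M2 := !![0, k; 1, 0] with hC
  set E : M2 := !![α, β * k; β, α] with hE
  have hEC : E * C = C * E := by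
    ext i j
    fin_cases i <;> fin_cases j <;> simp [hE, hC, Matrix.mul_apply, Fin.sum_univ_two] <;> ring
  have hadj : P.adjugate * Model.Phi (-T.ρ) β₁ β₂ x = C * P.adjugate := by
    have h1 : P.adjugate * (Model.Phi (-T.ρ) β₁ β₂ x * P) * P.adjugate =
        P.adjugate * (P * C) * P.adjugate := by rw [hPX]
    simp only [← mul_assoc] at h1
    rw [mul_assoc _ P, Matrix.mul_adjugate, Matrix.adjugate_mul, Matrix.mul_smul, mul_one,
      Matrix.smul_mul, one_mul, Matrix.smul_mul] at h1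
    exact smul_right_injective M2 hP h1
  have hdet : (P' * E * P.adjugate).det = 1 := by
    rw [Matrix.det_mul, Matrix.det_mul, Matrix.det_adjugate, Fintype.card_fin, pow_one,
      show E.det = (P.det * P'.det)⁻¹ by
        rw [← hαβ, hE, Matrix.det_fin_two]; simp; ring]
    field_simp
  obtain ⟨g, hg, hgw, hgx⟩ := hall ⟨_, hdet⟩
  refine ⟨g, hg, hgw, hgx x x' ?_⟩
  show _ * (P' * E * P.adjugate) = P' * E * P.adjugate * _
  rw [mul_assoc (P' * E), hadj, ← mul_assoc, ← mul_assoc, hPX', mul_assoc P', ← hEC]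
  simp only [mul_assoc]

include h2 hF hp2 in
/-- Three roots and a witness. -/
theorem ktransit_of_three (hY : Mirror Y) {u v w u' v' w' : F × F × F}
    (hy : ∀ x ∈ [u, v, w, u', v', w'], Model.q T.ρ x x = 1 ∧ KMem Y (T.ι x))
    {a b c a' b' c' : F} (ha : Model.q T.ρ u v = a) (hb : Model.q T.ρ u w = b)
    (hc : Model.q T.ρ v w = c) (ha' : Model.q T.ρ u' v' = a') (hb' : Model.q T.ρ u' w' = b')
    (hc' : Model.q T.ρ v' w' = c')
    (hΔ : 1 + 2 * a * b * c - a * a - b * b - c * c ≠ 0) (hb0 : b ≠ 0)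
    (hgood : 4 * (a * a) = 4 ∨ (4 * (a * a) ≠ 0 ∧ 4 * (a * a) ≠ 1 ∧ 4 * (a * a) ≠ 2 ∧
      4 * (a * a) * (4 * (a * a)) - 3 * (4 * (a * a)) + 1 ≠ 0))
    (hΔ' : 1 + 2 * a' * b' * c' - a' * a' - b' * b' - c' * c' ≠ 0 ∧
      1 + 2 * a' * b' * c' - a' * a' - b' * b' - c' * c' ≠ 1) : T.KTransit Y := by
  obtain ⟨β₁, β₂, hβ⟩ := exists_norm h2 (neg_ne_zero.mpr T.ρ_ne) (-T.ρ)
  have h4 : (4 : F) ≠ 0 := by
    rw [show (4 : F) = 2 * 2 by norm_num]; exact mul_ne_zero h2 h2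
  obtain ⟨s, hs, hsA⟩ := T.kacts_pair hβ h2 hY (hy u (by simp)).1 (hy v (by simp)).1
    (hy u (by simp)).2 (hy v (by simp)).2
  obtain ⟨t, ht, htA⟩ := T.kacts_pair hβ h2 hY (hy u (by simp)).1 (hy w (by simp)).1
    (hy u (by simp)).2 (hy w (by simp)).2
  obtain ⟨s', hs', hsA'⟩ := T.kacts_pair hβ h2 hY (hy u' (by simp)).1 (hy v' (by simp)).1
    (hy u' (by simp)).2 (hy v' (by simp)).2
  obtain ⟨t', ht', htA'⟩ := T.kacts_pair hβ h2 hY (hy u' (by simp)).1 (hy w' (by simp)).1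
    (hy u' (by simp)).2 (hy w' (by simp)).2
  have key : trace ((s * t * s⁻¹ * t⁻¹ : SL2) : M2) =
      2 - 4 * (1 + 2 * a * b * c - a * a - b * b - c * c) := by
    rw [Psl.trace_commutator, Matrix.SpecialLinearGroup.coe_mul, T.trace_pair hβ h2 hs,
      T.trace_pair hβ h2 ht, T.trace_pairs hβ h2 hs ht, ha, hb, (hy u (by simp)).1,
      show Model.q T.ρ v u = a by rw [← ha]; simp only [Model.q]; ring, hc]
    ring
  have key' : trace ((s' * t' * s'⁻¹ * t'⁻¹ : SL2) : M2) =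
      2 - 4 * (1 + 2 * a' * b' * c' - a' * a' - b' * b' - c' * c') := by
    rw [Psl.trace_commutator, Matrix.SpecialLinearGroup.coe_mul, T.trace_pair hβ h2 hs',
      T.trace_pair hβ h2 ht', T.trace_pairs hβ h2 hs' ht', ha', hb', (hy u' (by simp)).1,
      show Model.q T.ρ v' u' = a' by rw [← ha']; simp only [Model.q]; ring, hc']
    ring
  have hsq : trace (s : M2) ^ 2 = 4 * (a * a) := by
    rw [T.trace_pair hβ h2 hs, ha]; ring
  have hg0 : 4 * (a * a) ≠ 0 ∧ 4 * (a * a) ≠ 2 := by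
    rcases hgood with h | ⟨h, -, h', -⟩
    · rw [h]; exact ⟨h4, fun h' => h2 (by linear_combination h')⟩
    · exact ⟨h, h'⟩
  refine T.ktransit_of_witness hβ h2 hF hp2 hsA htA hsA' htA' ?_ ?_ ?_ ?_ ?_ ⟨?_, ?_⟩
  · rw [key]
    exact fun h => hΔ ((mul_eq_zero.mp (by linear_combination -h :
      4 * (1 + 2 * a * b * c - a * a - b * b - c * c) = 0)).resolve_left h4)
  · rw [T.trace_pair hβ h2 ht, hb]; exact mul_ne_zero h2 hb0
  · intro h; exact hg0.1 (by rw [← hsq, h]; ring)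
  · rw [hsq]; exact hg0.2
  · rcases hgood with h | ⟨-, h, -, h'⟩
    · exact Or.inl (hsq.trans h)
    · refine Or.inr ⟨by rw [hsq]; exact h, ?_⟩
      rw [show trace (s : M2) ^ 4 = (trace (s : M2) ^ 2) * (trace (s : M2) ^ 2) by ring, hsq]
      exact h'
  · rw [key']
    exact fun h => hΔ'.1 ((mul_eq_zero.mp (by linear_combination -h :
      4 * (1 + 2 * a' * b' * c' - a' * a' - b' * b' - c' * c') = 0)).resolve_left h4)
  · rw [key']
    exact fun h => hΔ'.2 (sub_eq_zero.mp ((mul_eq_zero.mp (by linear_combination -h :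
      4 * (1 + 2 * a' * b' * c' - a' * a' - b' * b' - c' * c' - 1) = 0)).resolve_left h4))


end Frame

end Cfsg.Agent.TableRelax.Mono
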